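import Cfsg.Agent.H645.LocalAlg
import Cfsg.Agent.H591.Five.Gr_mg
import Mathlib
import Cfsg.Agent.H644.Center
import Cfsg.Agent.Blocks.BlockRank
set_option linter.all false

-- part: H591/Five/Two
section
/-!
# Local symmetric algebras generated by two elements

`J` is a nilpotent multiplicatively closed subspace generated by `x, y` modulo `J ^ 2`, `lam` a trace
form not vanishing on the last nonzero power `J ^ m`, and `J ^ 3 ≤ [J, J ^ 2] + J ^ m`.
-/

set_option autoImplicit false

namespace Cfsg.Agent.H591.Five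

open Module

variable {K A : Type*} [Field K] [Ring A] [Algebra K A] {J : Submodule K A}

theorem mm {i j n : ℕ} {a b : A} (ha : a ∈ J ^ i) (hb : b ∈ J ^ j) (h : i + j = n := by omega) :
    a * b ∈ J ^ n := by
  rw [← h, pow_add]
  exact Submodule.mul_mem_mul ha hb

theorem m1 {a : A} (ha : a ∈ J) : a ∈ J ^ 1 := by rwa [pow_one]

theorem pow_anti (hJ : J * J ≤ J) {k n : ℕ} (hk : 1 ≤ k) (h : k ≤ n) : J ^ n ≤ J ^ k :=
  H645.LocalAlg.pow_antitone hJ hk h

theorem pow_eq_bot {m n : ℕ} (hJm : J ^ (m + 1) = ⊥) (h : m + 1 ≤ n) : J ^ n = ⊥ := by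
  obtain ⟨k, rfl⟩ := Nat.exists_eq_add_of_le h
  rw [pow_add, hJm, Submodule.bot_mul]

/-- The data of a nilpotent space with a trace form. -/
structure Nil (J : Submodule K A) (lam : A →ₗ[K] K) (m : ℕ) : Prop where
  mul : J * J ≤ J
  bot : J ^ (m + 1) = ⊥
  symm : ∀ a b, lam (a * b) = lam (b * a)
  top : ∃ a ∈ J ^ m, lam a ≠ 0
  three : J ^ 3 ≤ cm J (J ^ 2) ⊔ J ^ m

variable {lam : A →ₗ[K] K} {m : ℕ}

theorem Nil.zero (h : Nil J lam m) {n : ℕ} (hn : m + 1 ≤ n) {a : A} (ha : a ∈ J ^ n) : a = 0 := by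
  rwa [pow_eq_bot h.bot hn, Submodule.mem_bot] at ha

/-- Not all commutators vanish in the top degree. -/
theorem Nil.no_sym (h : Nil J lam m) (h4 : 4 ≤ m)
    (hc : ∀ p ∈ J, ∀ q ∈ J, ∀ a ∈ J ^ (m - 2), lam ((p * q - q * p) * a) = 0) : False := by
  obtain ⟨a, ha, ha0⟩ := h.top
  apply ha0
  have key : J ^ (3 + (m - 3)) ≤ LinearMap.ker lam := by
    rw [pow_add, Submodule.mul_le]
    intro c hc3 b hb
    rw [LinearMap.mem_ker]
    have hcm : cm J (J ^ 2) ≤ LinearMap.ker (lam ∘ₗ LinearMap.mulRight K b) := by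
      rw [cm, Submodule.span_le]
      rintro _ ⟨p, hp, a, ha, rfl⟩
      have h2 : J ^ 2 ≤ LinearMap.ker (lam ∘ₗ LinearMap.mulRight K b ∘ₗ
          (LinearMap.mulLeft K p - LinearMap.mulRight K p)) := by
        rw [pow_two, Submodule.mul_le]
        intro a₁ ha₁ a₂ ha₂
        rw [LinearMap.mem_ker]
        show lam ((p * (a₁ * a₂) - a₁ * a₂ * p) * b) = 0
        have e1 : (p * (a₁ * a₂) - a₁ * a₂ * p) * b =
            (p * a₁ - a₁ * p) * (a₂ * b) + a₁ * ((p * a₂ - a₂ * p) * b) := by noncomm_ring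
        rw [e1, map_add, hc p hp a₁ ha₁ _ (mm (m1 ha₂) hb), zero_add, h.symm, mul_assoc]
        exact hc p hp a₂ ha₂ _ (mm hb (m1 ha₁))
      exact h2 ha
    obtain ⟨c', hc', s, hs, rfl⟩ := Submodule.mem_sup.1 (h.three hc3)
    rw [add_mul, map_add, h.zero (n := m + (m - 3)) (by omega) (mm hs hb rfl), map_zero, add_zero]
    exact hcm hc'
  have h5 : J ^ m ≤ LinearMap.ker lam := by rwa [show 3 + (m - 3) = m by omega] at key
  exact h5 ha

variable {x y : A}

/-- Elements of `J`. -/
theorem exists_coeff (hgen : J ≤ Submodule.span K {x, y} ⊔ J ^ 2) {a : A} (ha : a ∈ J) :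
    ∃ α β : K, ∃ r ∈ J ^ 2, a = α • x + β • y + r := by
  obtain ⟨u, hu, r, hr, rfl⟩ := Submodule.mem_sup.1 (hgen ha)
  obtain ⟨α, β, rfl⟩ := Submodule.mem_span_pair.1 hu
  exact ⟨α, β, r, hr, rfl⟩

/-- The commutators modulo `J ^ 3`. -/
theorem comm_mod (hJ : J * J ≤ J) (hx : x ∈ J) (hy : y ∈ J)
    (hgen : J ≤ Submodule.span K {x, y} ⊔ J ^ 2) {p q : A}
    (hp : p ∈ J) (hq : q ∈ J) : ∃ d : K, ∃ r ∈ J ^ 3, p * q - q * p = d • (x * y - y * x) + r := by
  obtain ⟨α, β, r, hr, rfl⟩ := exists_coeff hgen hp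
  obtain ⟨γ, δ, s, hs, rfl⟩ := exists_coeff hgen hq
  refine ⟨α * δ - β * γ, _, ?_, (add_sub_cancel _ _).symm⟩
  have e : (α • x + β • y + r) * (γ • x + δ • y + s) - (γ • x + δ • y + s) * (α • x + β • y + r) -
      (α * δ - β * γ) • (x * y - y * x) = (α • (x * s - s * x) + β • (y * s - s * y)) +
      (γ • (r * x - x * r) + δ • (r * y - y * r)) + (r * s - s * r) := by
    simp only [add_mul, mul_add, smul_mul_assoc, mul_smul_comm, smul_sub]
    module
  rw [e]
  have h4 : r * s - s * r ∈ J ^ 3 := pow_anti hJ (by norm_num) (show 3 ≤ 4 by norm_num)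
    (Submodule.sub_mem _ (mm hr hs) (mm hs hr))
  refine Submodule.add_mem _ (Submodule.add_mem _ (Submodule.add_mem _ ?_ ?_)
    (Submodule.add_mem _ ?_ ?_)) h4
  · exact Submodule.smul_mem _ _ (Submodule.sub_mem _ (mm (m1 hx) hs) (mm hs (m1 hx)))
  · exact Submodule.smul_mem _ _ (Submodule.sub_mem _ (mm (m1 hy) hs) (mm hs (m1 hy)))
  · exact Submodule.smul_mem _ _ (Submodule.sub_mem _ (mm hr (m1 hx)) (mm (m1 hx) hr))
  · exact Submodule.smul_mem _ _ (Submodule.sub_mem _ (mm hr (m1 hy)) (mm (m1 hy) hr))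

/-- It is enough that `[x, y]` vanishes in the top degree. -/
theorem Nil.no_sym' (h : Nil J lam m) (h4 : 4 ≤ m) (hx : x ∈ J) (hy : y ∈ J)
    (hgen : J ≤ Submodule.span K {x, y} ⊔ J ^ 2)
    (hc : ∀ a ∈ J ^ (m - 2), lam ((x * y - y * x) * a) = 0) : False := by
  refine h.no_sym h4 fun p hp q hq a ha => ?_
  obtain ⟨d, r, hr, e⟩ := comm_mod h.mul hx hy hgen hp hq
  rw [e, add_mul, map_add, smul_mul_assoc, map_smul, hc a ha, smul_zero, zero_add,
    h.zero (n := 3 + (m - 2)) (by omega) (mm hr ha rfl), map_zero]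

/-- The case of a relation `x y = 0`. -/
theorem Nil.case_a (h : Nil J lam m) (h4 : 4 ≤ m) (hx : x ∈ J) (hy : y ∈ J)
    (hgen : J ≤ Submodule.span K {x, y} ⊔ J ^ 2) (hxy : x * y ∈ J ^ 3) : False := by
  have key : ∀ k : ℕ, ∀ a ∈ J ^ k, x * a * y ∈ J ^ (k + 3) := by
    intro k
    induction k with
    | zero =>
      intro a ha
      rw [pow_zero] at ha
      obtain ⟨c, rfl⟩ := Submodule.mem_one.1 ha
      rw [← Algebra.commutes, mul_assoc, ← Algebra.smul_def, zero_add]
      exact Submodule.smul_mem _ _ hxy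
    | succ k ih =>
      have h1 : J ^ (k + 1) ≤ (J ^ (k + 1 + 3)).comap
          (LinearMap.mulRight K y ∘ₗ LinearMap.mulLeft K x) := by
        rw [pow_succ', Submodule.mul_le]
        intro b hb a ha
        obtain ⟨α, β, r, hr, rfl⟩ := exists_coeff hgen hb
        show x * ((α • x + β • y + r) * a) * y ∈ J ^ (k + 1 + 3)
        have e : x * ((α • x + β • y + r) * a) * y = α • (x * (x * a * y)) +
            β • (x * y * (a * y)) + x * r * (a * y) := by
          simp only [add_mul, mul_add, smul_mul_assoc, mul_smul_comm, mul_assoc]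
        rw [e]
        refine Submodule.add_mem _ (Submodule.add_mem _ (Submodule.smul_mem _ _ ?_)
          (Submodule.smul_mem _ _ ?_)) ?_
        · exact mm (m1 hx) (ih a ha)
        · exact mm hxy (mm ha (m1 hy) rfl)
        · exact mm (mm (m1 hx) hr rfl) (mm ha (m1 hy) rfl)
      exact fun a ha => h1 ha
  refine h.no_sym' h4 hx hy hgen fun a ha => ?_
  have e1 : lam (x * y * a) = 0 := by
    rw [h.zero (n := 3 + (m - 2)) (by omega) (mm hxy ha rfl), map_zero]
  have e2 : lam (y * x * a) = 0 := by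
    rw [mul_assoc, h.symm, h.zero (n := m - 2 + 3) (by omega) (key _ a ha), map_zero]
  rw [sub_mul, map_sub, e1, e2, sub_zero]

/-- The case of the relations `x² = 0`, `x y = q y x`. -/
theorem Nil.case_c (h : Nil J lam m) (h4 : 4 ≤ m) (hx : x ∈ J) (hy : y ∈ J)
    (hgen : J ≤ Submodule.span K {x, y} ⊔ J ^ 2) (hxx : x * x ∈ J ^ 3) {q : K}
    (hq : x * y - q • (y * x) ∈ J ^ 3) : False := by
  have key : ∀ k : ℕ, ∀ a ∈ J ^ k, x * a * x ∈ J ^ (k + 3) := by
    intro k
    induction k with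
    | zero =>
      intro a ha
      rw [pow_zero] at ha
      obtain ⟨c, rfl⟩ := Submodule.mem_one.1 ha
      rw [← Algebra.commutes, mul_assoc, ← Algebra.smul_def, zero_add]
      exact Submodule.smul_mem _ _ hxx
    | succ k ih =>
      have h1 : J ^ (k + 1) ≤ (J ^ (k + 1 + 3)).comap
          (LinearMap.mulRight K x ∘ₗ LinearMap.mulLeft K x) := by
        rw [pow_succ', Submodule.mul_le]
        intro b hb a ha
        obtain ⟨α, β, r, hr, rfl⟩ := exists_coeff hgen hb
        show x * ((α • x + β • y + r) * a) * x ∈ J ^ (k + 1 + 3)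
        have e : x * ((α • x + β • y + r) * a) * x = α • (x * x * (a * x)) +
            (β * q) • (y * (x * a * x)) + β • ((x * y - q • (y * x)) * (a * x)) +
            x * r * (a * x) := by
          simp only [add_mul, mul_add, sub_mul, smul_mul_assoc, mul_smul_comm, mul_assoc]
          module
        rw [e]
        refine Submodule.add_mem _ (Submodule.add_mem _ (Submodule.add_mem _
          (Submodule.smul_mem _ _ ?_) (Submodule.smul_mem _ _ ?_)) (Submodule.smul_mem _ _ ?_)) ?_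
        · exact mm hxx (mm ha (m1 hx) rfl)
        · exact mm (m1 hy) (ih a ha)
        · exact mm hq (mm ha (m1 hx) rfl)
        · exact mm (mm (m1 hx) hr rfl) (mm ha (m1 hx) rfl)
      exact fun a ha => h1 ha
  refine h.no_sym' h4 hx hy hgen fun a ha => ?_
  by_cases hq1 : q = 1
  · rw [hq1, one_smul] at hq
    rw [h.zero (n := 3 + (m - 2)) (by omega) (mm hq ha rfl), map_zero]
  -- the product `y x y^(m-2)`
  have hyp : ∀ j, y ^ j ∈ J ^ j := fun j => Submodule.pow_mem_pow _ hy j
  have h0 : lam (y * x * y ^ (m - 2)) = 0 := by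
    have e1 : lam ((x * y - q • (y * x)) * y ^ (m - 2)) = 0 := by
      rw [h.zero (n := 3 + (m - 2)) (by omega) (mm hq (hyp _) rfl), map_zero]
    have e2 : lam (x * y * y ^ (m - 2)) = lam (y * x * y ^ (m - 2)) := by
      rw [mul_assoc, mul_assoc, h.symm y, ← pow_succ', mul_assoc, ← pow_succ]
    rw [sub_mul, map_sub, smul_mul_assoc, map_smul, e2, smul_eq_mul] at e1
    have e3 : (1 - q) * lam (y * x * y ^ (m - 2)) = 0 := by linear_combination e1
    exact (mul_eq_zero.1 e3).resolve_left (sub_ne_zero.2 (Ne.symm hq1))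
  have key2 : ∀ k j : ℕ, k + j = m - 2 → ∀ a ∈ J ^ k, lam (y * x * y ^ j * a) = 0 := by
    intro k
    induction k with
    | zero =>
      intro j hj a ha
      rw [pow_zero] at ha
      obtain ⟨c, rfl⟩ := Submodule.mem_one.1 ha
      rw [zero_add] at hj
      rw [← Algebra.commutes, ← Algebra.smul_def, map_smul, hj, h0, smul_zero]
    | succ k ih =>
      intro j hj
      have h1 : J ^ (k + 1) ≤ LinearMap.ker (lam ∘ₗ LinearMap.mulLeft K (y * x * y ^ j)) := by
        rw [pow_succ', Submodule.mul_le]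
        intro b hb a ha
        obtain ⟨α, β, r, hr, rfl⟩ := exists_coeff hgen hb
        rw [LinearMap.mem_ker]
        show lam (y * x * y ^ j * ((α • x + β • y + r) * a)) = 0
        have e : y * x * y ^ j * ((α • x + β • y + r) * a) = α • (y * ((x * y ^ j * x) * a)) +
            β • (y * x * y ^ (j + 1) * a) + y * x * y ^ j * (r * a) := by
          simp only [add_mul, mul_add, smul_mul_assoc, mul_smul_comm, mul_assoc, pow_succ]
        rw [e, map_add, map_add, map_smul, map_smul, ih (j + 1) (by omega) a ha,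
          h.zero (n := 1 + (j + 3 + k)) (by omega) (mm (m1 hy) (mm (key j _ (hyp j)) ha rfl) rfl),
          h.zero (n := 1 + 1 + j + (2 + k)) (by omega) (mm (mm (mm (m1 hy) (m1 hx) rfl) (hyp j) rfl)
            (mm hr ha rfl) rfl)]
        simp
      exact fun a ha => h1 ha
  have e1 : lam (y * x * a) = 0 := by
    have := key2 (m - 2) 0 (by omega) a ha
    rwa [pow_zero, mul_one] at this
  have e2 : lam (x * y * a) = 0 := by
    have e3 : lam ((x * y - q • (y * x)) * a) = 0 := by
      rw [h.zero (n := 3 + (m - 2)) (by omega) (mm hq ha rfl), map_zero]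
    rw [sub_mul, map_sub, smul_mul_assoc, map_smul, e1, smul_zero, sub_zero] at e3
    exact e3
  rw [sub_mul, map_sub, e1, e2, sub_zero]

/-- The alternating words. -/
def alt (x y : A) : ℕ → A
  | 0 => 1
  | n + 1 => x * alt y x n

theorem alt_mem (hx : x ∈ J) (hy : y ∈ J) (n : ℕ) : alt x y n ∈ J ^ n := by
  induction n generalizing x y with
  | zero => rw [pow_zero]; exact Submodule.one_le.1 le_rfl
  | succ n ih => exact mm (m1 hx) (ih hy hx)

theorem mul_alt_mem (hx : x ∈ J) (hy : y ∈ J) (hxx : x * x ∈ J ^ 3) (n : ℕ) :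
    x * alt x y (n + 1) ∈ J ^ (n + 3) := by
  show x * (x * alt y x n) ∈ J ^ (n + 3)
  rw [← mul_assoc]
  exact mm hxx (alt_mem hy hx n)

/-- Coefficients with respect to the alternating words. -/
theorem exists_alt (hJ : J * J ≤ J) (hx : x ∈ J) (hy : y ∈ J)
    (hgen : J ≤ Submodule.span K {x, y} ⊔ J ^ 2) (hxx : x * x ∈ J ^ 3) (hyy : y * y ∈ J ^ 3)
    (n : ℕ) : ∀ a ∈ J ^ (n + 1), ∃ α β : K, ∃ r ∈ J ^ (n + 2),
      a = α • alt x y (n + 1) + β • alt y x (n + 1) + r := by
  induction n with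
  | zero =>
    intro a ha
    rw [zero_add, pow_one] at ha
    obtain ⟨α, β, r, hr, rfl⟩ := exists_coeff hgen ha
    exact ⟨α, β, r, hr, by simp [alt]⟩
  | succ n ih =>
    have h1 : J ^ (n + 1 + 1) ≤ Submodule.span K {alt x y (n + 1 + 1), alt y x (n + 1 + 1)} ⊔
        J ^ (n + 1 + 2) := by
      rw [pow_succ' J (n + 1), Submodule.mul_le]
      intro p hp a ha
      obtain ⟨α, β, r, hr, rfl⟩ := exists_coeff hgen hp
      obtain ⟨γ, δ, s, hs, rfl⟩ := ih a ha
      have e : (α • x + β • y + r) * (γ • alt x y (n + 1) + δ • alt y x (n + 1) + s) =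
          ((α * δ) • alt x y (n + 1 + 1) + (β * γ) • alt y x (n + 1 + 1)) +
          ((α * γ) • (x * alt x y (n + 1)) + (β * δ) • (y * alt y x (n + 1)) +
            (α • (x * s) + β • (y * s)) +
            r * (γ • alt x y (n + 1) + δ • alt y x (n + 1) + s)) := by
        rw [show alt x y (n + 1 + 1) = x * alt y x (n + 1) from rfl,
          show alt y x (n + 1 + 1) = y * alt x y (n + 1) from rfl]
        simp only [add_mul, mul_add, smul_mul_assoc, mul_smul_comm]
        module
      rw [e]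
      refine Submodule.add_mem_sup (Submodule.mem_span_pair.2 ⟨_, _, rfl⟩) ?_
      refine Submodule.add_mem _ (Submodule.add_mem _ (Submodule.add_mem _
        (Submodule.smul_mem _ _ ?_) (Submodule.smul_mem _ _ ?_)) (Submodule.add_mem _
        (Submodule.smul_mem _ _ ?_) (Submodule.smul_mem _ _ ?_))) ?_
      · exact mul_alt_mem hx hy hxx n
      · exact mul_alt_mem hy hx hyy n
      · exact mm (m1 hx) hs
      · exact mm (m1 hy) hs
      · refine mm hr (j := n + 1) ?_
        exact Submodule.add_mem _ (Submodule.add_mem _ (Submodule.smul_mem _ _ (alt_mem hx hy _))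
          (Submodule.smul_mem _ _ (alt_mem hy hx _))) (pow_anti hJ (by omega) (by omega) hs)
    intro a ha
    obtain ⟨u, hu, r, hr, rfl⟩ := Submodule.mem_sup.1 (h1 ha)
    obtain ⟨α, β, rfl⟩ := Submodule.mem_span_pair.1 hu
    exact ⟨α, β, r, hr, rfl⟩

/-- The commutator with `z`, as a linear map. -/
noncomputable def ad (K : Type*) {A : Type*} [Field K] [Ring A] [Algebra K A] (z : A) : A →ₗ[K] A :=
  LinearMap.mulLeft K z - LinearMap.mulRight K z

theorem ad_apply (z a : A) : ad K z a = z * a - a * z := rfl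

theorem cm_le_ad (hJ : J * J ≤ J)
    (hgen : J ≤ Submodule.span K {x, y} ⊔ J ^ 2) :
    cm J (J ^ 2) ≤ (J ^ 2).map (ad K x) ⊔ (J ^ 2).map (ad K y) ⊔ J ^ 5 := by
  set S := (J ^ 2).map (ad K x) ⊔ (J ^ 2).map (ad K y) ⊔ J ^ 5 with hS
  have hX : ∀ a ∈ J ^ 2, x * a - a * x ∈ S := fun a ha =>
    Submodule.mem_sup_left (Submodule.mem_sup_left ⟨a, ha, rfl⟩)
  have hY : ∀ a ∈ J ^ 2, y * a - a * y ∈ S := fun a ha =>
    Submodule.mem_sup_left (Submodule.mem_sup_right ⟨a, ha, rfl⟩)
  have h5 : ∀ a ∈ J ^ 5, a ∈ S := fun a ha => Submodule.mem_sup_right ha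
  have hsplit : ∀ α β : K, ∀ r a : A, (α • x + β • y + r) * a - a * (α • x + β • y + r) =
      α • (x * a - a * x) + β • (y * a - a * y) + (r * a - a * r) := by
    intro α β r a
    simp only [add_mul, mul_add, smul_mul_assoc, mul_smul_comm, smul_sub]
    abel
  have E1 : ∀ p ∈ J, ∀ a ∈ J ^ 3, p * a - a * p ∈ S := by
    intro p hp a ha
    obtain ⟨α, β, r, hr, rfl⟩ := exists_coeff hgen hp
    rw [hsplit]
    have ha2 : a ∈ J ^ 2 := pow_anti hJ (by omega) (by omega) ha
    refine Submodule.add_mem _ (Submodule.add_mem _ (Submodule.smul_mem _ _ (hX a ha2))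
      (Submodule.smul_mem _ _ (hY a ha2))) (h5 _ (Submodule.sub_mem _ (mm hr ha) (mm ha hr)))
  have E2 : ∀ a ∈ J ^ 2, ∀ r ∈ J ^ 2, r * a - a * r ∈ S := by
    intro a ha
    have h1 : J ^ 2 ≤ S.comap (LinearMap.mulRight K a - LinearMap.mulLeft K a) := by
      rw [pow_two, Submodule.mul_le]
      intro b₁ hb₁ b₂ hb₂
      show b₁ * b₂ * a - a * (b₁ * b₂) ∈ S
      have e : b₁ * b₂ * a - a * (b₁ * b₂) = (b₁ * (b₂ * a) - (b₂ * a) * b₁) +
          (b₂ * (a * b₁) - (a * b₁) * b₂) := by noncomm_ring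
      rw [e]
      exact Submodule.add_mem _ (E1 b₁ hb₁ _ (mm (m1 hb₂) ha)) (E1 b₂ hb₂ _ (mm ha (m1 hb₁)))
    exact fun r hr => h1 hr
  rw [cm, Submodule.span_le]
  rintro _ ⟨p, hp, a, ha, rfl⟩
  obtain ⟨α, β, r, hr, rfl⟩ := exists_coeff hgen hp
  rw [SetLike.mem_coe, hsplit]
  exact Submodule.add_mem _ (Submodule.add_mem _ (Submodule.smul_mem _ _ (hX a ha))
      (Submodule.smul_mem _ _ (hY a ha))) (E2 a ha r hr)

theorem Nil.four_le (h : Nil J lam m) (h5 : 5 ≤ m) (hx : x ∈ J) (hy : y ∈ J)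
    (hgen : J ≤ Submodule.span K {x, y} ⊔ J ^ 2) (hxx : x * x ∈ J ^ 3) (hyy : y * y ∈ J ^ 3) :
    ∀ a ∈ J ^ 4, ∃ c : K, a - c • (x * y * x * y - y * x * y * x) ∈ J ^ 5 := by
  intro a ha
  have hJ := h.mul
  have hx1 := m1 hx
  have hy1 := m1 hy
  have hal2 : ∀ a ∈ J ^ 2, ∃ α β : K, ∃ r ∈ J ^ 3, a = α • (x * y) + β • (y * x) + r := by
    intro a ha
    obtain ⟨α, β, r, hr, e⟩ := exists_alt hJ hx hy hgen hxx hyy 1 a ha
    exact ⟨α, β, r, hr, by rw [e]; simp [alt]⟩
  have hal3 : ∀ a ∈ J ^ 3, ∃ α β : K, ∃ r ∈ J ^ 4, a = α • (x * y * x) + β • (y * x * y) + r := by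
    intro a ha
    obtain ⟨α, β, r, hr, e⟩ := exists_alt hJ hx hy hgen hxx hyy 2 a ha
    exact ⟨α, β, r, hr, by rw [e]; simp [alt, mul_assoc]⟩
  have hal4 : ∀ a ∈ J ^ 4, ∃ α β : K, ∃ r ∈ J ^ 5,
      a = α • (x * y * x * y) + β • (y * x * y * x) + r := by
    intro a ha
    obtain ⟨α, β, r, hr, e⟩ := exists_alt hJ hx hy hgen hxx hyy 3 a ha
    exact ⟨α, β, r, hr, by rw [e]; simp [alt, mul_assoc]⟩
  by_cases hind : ∀ s t : K, s • (x * y * x) + t • (y * x * y) ∈ J ^ 4 → s = 0 ∧ t = 0
  · -- independent words of length three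
    have h3 : J ^ 3 ≤ (J ^ 2).map (ad K x) ⊔ (J ^ 2).map (ad K y) ⊔ J ^ 5 :=
      h.three.trans (sup_le (cm_le_ad hJ hgen)
        ((pow_anti hJ (by omega) h5).trans le_sup_right))
    have ha3 : a ∈ J ^ 3 := pow_anti hJ (by omega) (by omega) ha
    obtain ⟨u, hu, r, hr, e1⟩ := Submodule.mem_sup.1 (h3 ha3)
    obtain ⟨_, ⟨a', ha', rfl⟩, _, ⟨b', hb', rfl⟩, e2⟩ := Submodule.mem_sup.1 hu
    obtain ⟨α₁, α₂, a₃, ha₃, ea'⟩ := hal2 a' ha'
    obtain ⟨β₁, β₂, b₃, hb₃, eb'⟩ := hal2 b' hb'
    rw [ad_apply, ad_apply] at e2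
    have hr4 : r ∈ J ^ 4 := pow_anti hJ (by omega) (by omega) hr
    have hxxy : x * x * y ∈ J ^ 4 := mm hxx hy1
    have hyxx : y * (x * x) ∈ J ^ 4 := mm hy1 hxx
    have hxyy : x * (y * y) ∈ J ^ 4 := mm hx1 hyy
    have hyyx : y * y * x ∈ J ^ 4 := mm hyy hx1
    have hxa : x * a₃ - a₃ * x ∈ J ^ 4 := Submodule.sub_mem _ (mm hx1 ha₃) (mm ha₃ hx1)
    have hyb : y * b₃ - b₃ * y ∈ J ^ 4 := Submodule.sub_mem _ (mm hy1 hb₃) (mm hb₃ hy1)
    have e3 : a = (α₂ - α₁) • (x * y * x) + (β₁ - β₂) • (y * x * y) + (α₁ • (x * x * y) -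
        α₂ • (y * (x * x)) + (x * a₃ - a₃ * x) - β₁ • (x * (y * y)) + β₂ • (y * y * x) +
        (y * b₃ - b₃ * y) + r) := by
      rw [← e1, ← e2, ea', eb']
      simp only [add_mul, mul_add, smul_mul_assoc, mul_smul_comm, mul_assoc]
      module
    have h4 := hind (α₂ - α₁) (β₁ - β₂) (by
      have e4 : (α₂ - α₁) • (x * y * x) + (β₁ - β₂) • (y * x * y) = a - (α₁ • (x * x * y) -
        α₂ • (y * (x * x)) + (x * a₃ - a₃ * x) - β₁ • (x * (y * y)) + β₂ • (y * y * x) +
        (y * b₃ - b₃ * y) + r) := eq_sub_of_add_eq e3.symm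
      rw [e4]
      refine Submodule.sub_mem _ ha (Submodule.add_mem _ (Submodule.add_mem _ (Submodule.add_mem _
        (Submodule.sub_mem _ (Submodule.add_mem _ (Submodule.sub_mem _ (Submodule.smul_mem _ _ hxxy)
        (Submodule.smul_mem _ _ hyxx)) hxa) (Submodule.smul_mem _ _ hxyy))
        (Submodule.smul_mem _ _ hyyx)) hyb) hr4))
    obtain rfl : α₂ = α₁ := by linear_combination h4.1
    obtain rfl : β₁ = β₂ := by linear_combination h4.2
    obtain ⟨s₁, s₂, x₄, hx₄, exx⟩ := hal3 _ hxx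
    obtain ⟨t₁, t₂, y₄, hy₄, eyy⟩ := hal3 _ hyy
    obtain ⟨u₁, u₂, a₄, ha₄, ea₃⟩ := hal3 _ ha₃
    obtain ⟨v₁, v₂, b₄, hb₄, eb₃⟩ := hal3 _ hb₃
    -- small elements
    have hxy1 : x * y ∈ J ^ 2 := mm hx1 hy1
    have hyx1 : y * x ∈ J ^ 2 := mm hy1 hx1
    have k1 : x * x * (y * x) - x * y * (x * x) ∈ J ^ 5 :=
      Submodule.sub_mem _ (mm hxx hyx1) (mm hxy1 hxx)
    have k2 : y * y * (x * y) - y * x * (y * y) ∈ J ^ 5 :=
      Submodule.sub_mem _ (mm hyy hxy1) (mm hyx1 hyy)
    have k3 : ∀ z ∈ J, ∀ b ∈ J ^ 4, z * b - b * z ∈ J ^ 5 := fun z hz b hb =>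
      Submodule.sub_mem _ (mm (m1 hz) hb) (mm hb (m1 hz))
    refine ⟨α₂ * s₁ + u₂ - β₁ * t₂ - v₁, ?_⟩
    have e5 : x * x * y - y * (x * x) = s₁ • (x * y * x * y - y * x * y * x) -
        s₂ • (y * y * (x * y) - y * x * (y * y)) - (y * x₄ - x₄ * y) := by
      rw [exx]
      simp only [add_mul, mul_add, smul_mul_assoc, mul_smul_comm, mul_assoc, smul_sub]
      abel
    have e6 : y * y * x - x * (y * y) = -(t₂ • (x * y * x * y - y * x * y * x)) -
        t₁ • (x * x * (y * x) - x * y * (x * x)) - (x * y₄ - y₄ * x) := by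
      rw [eyy]
      simp only [add_mul, mul_add, smul_mul_assoc, mul_smul_comm, mul_assoc, smul_sub]
      abel
    have e7 : x * a₃ - a₃ * x = u₂ • (x * y * x * y - y * x * y * x) +
        u₁ • (x * x * (y * x) - x * y * (x * x)) + (x * a₄ - a₄ * x) := by
      rw [ea₃]
      simp only [add_mul, mul_add, smul_mul_assoc, mul_smul_comm, mul_assoc, smul_sub]
      abel
    have e8 : y * b₃ - b₃ * y = -(v₁ • (x * y * x * y - y * x * y * x)) +
        v₂ • (y * y * (x * y) - y * x * (y * y)) + (y * b₄ - b₄ * y) := by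
      rw [eb₃]
      simp only [add_mul, mul_add, smul_mul_assoc, mul_smul_comm, mul_assoc, smul_sub]
      abel
    have e9 : a = α₂ • (x * x * y - y * (x * x)) + β₁ • (y * y * x - x * (y * y)) +
        (x * a₃ - a₃ * x) + (y * b₃ - b₃ * y) + r := by
      rw [e3]
      module
    have e10 : a - (α₂ * s₁ + u₂ - β₁ * t₂ - v₁) • (x * y * x * y - y * x * y * x) =
        α₂ • (-(s₂ • (y * y * (x * y) - y * x * (y * y))) - (y * x₄ - x₄ * y)) +
        β₁ • (-(t₁ • (x * x * (y * x) - x * y * (x * x))) - (x * y₄ - y₄ * x)) +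
        (u₁ • (x * x * (y * x) - x * y * (x * x)) + (x * a₄ - a₄ * x)) +
        (v₂ • (y * y * (x * y) - y * x * (y * y)) + (y * b₄ - b₄ * y)) + r := by
      rw [e9, e5, e6, e7, e8]
      module
    rw [e10]
    refine Submodule.add_mem _ (Submodule.add_mem _ (Submodule.add_mem _ (Submodule.add_mem _
      (Submodule.smul_mem _ _ (Submodule.sub_mem _ (Submodule.neg_mem _ (Submodule.smul_mem _ _ k2))
      (k3 y hy _ hx₄))) (Submodule.smul_mem _ _ (Submodule.sub_mem _ (Submodule.neg_mem _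
      (Submodule.smul_mem _ _ k1)) (k3 x hx _ hy₄)))) (Submodule.add_mem _
      (Submodule.smul_mem _ _ k1) (k3 x hx _ ha₄))) (Submodule.add_mem _
      (Submodule.smul_mem _ _ k2) (k3 y hy _ hb₄))) hr
  · -- dependent words
    push Not at hind
    obtain ⟨s, t, hst, hne⟩ := hind
    have w1 : s • (x * y * x * y) ∈ J ^ 5 := by
      have e1 : s • (x * y * x * y) = (s • (x * y * x) + t • (y * x * y)) * y -
          t • (y * x * (y * y)) := by
        simp only [add_mul, smul_mul_assoc, mul_assoc]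
        abel
      rw [e1]
      exact Submodule.sub_mem _ (mm hst hy1) (Submodule.smul_mem _ _ (mm (mm hy1 hx1 rfl) hyy))
    have w2 : s • (y * x * y * x) ∈ J ^ 5 := by
      have e1 : s • (y * x * y * x) = y * (s • (x * y * x) + t • (y * x * y)) -
          t • (y * y * (x * y)) := by
        simp only [mul_add, mul_smul_comm, mul_assoc]
        abel
      rw [e1]
      exact Submodule.sub_mem _ (mm hy1 hst) (Submodule.smul_mem _ _ (mm hyy (mm hx1 hy1 rfl)))
    have w3 : t • (x * y * x * y) ∈ J ^ 5 := by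
      have e1 : t • (x * y * x * y) = x * (s • (x * y * x) + t • (y * x * y)) -
          s • (x * x * (y * x)) := by
        simp only [mul_add, mul_smul_comm, mul_assoc]
        abel
      rw [e1]
      exact Submodule.sub_mem _ (mm hx1 hst) (Submodule.smul_mem _ _ (mm hxx (mm hy1 hx1 rfl)))
    have w4 : t • (y * x * y * x) ∈ J ^ 5 := by
      have e1 : t • (y * x * y * x) = (s • (x * y * x) + t • (y * x * y)) * x -
          s • (x * y * (x * x)) := by
        simp only [add_mul, smul_mul_assoc, mul_assoc]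
        abel
      rw [e1]
      exact Submodule.sub_mem _ (mm hst hx1) (Submodule.smul_mem _ _ (mm (mm hx1 hy1 rfl) hxx))
    have w5 : x * y * x * y ∈ J ^ 5 ∧ y * x * y * x ∈ J ^ 5 := by
      by_cases hs : s = 0
      · have ht := hne hs
        exact ⟨(Submodule.smul_mem_iff _ ht).1 w3, (Submodule.smul_mem_iff _ ht).1 w4⟩
      · exact ⟨(Submodule.smul_mem_iff _ hs).1 w1, (Submodule.smul_mem_iff _ hs).1 w2⟩
    obtain ⟨α, β, r, hr, rfl⟩ := hal4 a ha
    refine ⟨0, ?_⟩
    rw [zero_smul, sub_zero]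
    exact Submodule.add_mem _ (Submodule.add_mem _ (Submodule.smul_mem _ _ w5.1)
      (Submodule.smul_mem _ _ w5.2)) hr

/-- The case of the relations `x² = y² = 0`. -/
theorem Nil.case_b (h : Nil J lam m) (h5 : 5 ≤ m) (hx : x ∈ J) (hy : y ∈ J)
    (hgen : J ≤ Submodule.span K {x, y} ⊔ J ^ 2) (hxx : x * x ∈ J ^ 3) (hyy : y * y ∈ J ^ 3) :
    False := by
  have hJ := h.mul
  have hx1 := m1 hx
  have hy1 := m1 hy
  have hw : x * y * x * y ∈ J ^ 4 := mm (mm (mm hx1 hy1 rfl) hx1 rfl) hy1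
  obtain ⟨c, hc⟩ := h.four_le h5 hx hy hgen hxx hyy _ hw
  have hxy1 : x * y ∈ J ^ 2 := mm hx1 hy1
  have hyx1 : y * x ∈ J ^ 2 := mm hy1 hx1
  have f1 : c • (x * y * x * y * x) ∈ J ^ 6 := by
    have e1 : c • (x * y * x * y * x) = x * (x * y * x * y - c • (x * y * x * y - y * x * y * x)) -
        (1 - c) • (x * x * (y * x * y)) := by
      simp only [mul_sub, mul_smul_comm, mul_assoc, sub_smul, smul_sub, one_smul]
      abel
    rw [e1]
    exact Submodule.sub_mem _ (mm hx1 hc) (Submodule.smul_mem _ _ (mm hxx (mm hyx1 hy1 rfl)))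
  have f2 : (1 - c) • (x * y * x * y * x) ∈ J ^ 6 := by
    have e1 : (1 - c) • (x * y * x * y * x) =
        (x * y * x * y - c • (x * y * x * y - y * x * y * x)) * x -
        c • (y * x * y * (x * x)) := by
      simp only [sub_mul, smul_mul_assoc, mul_assoc, sub_smul, smul_sub, one_smul]
      abel
    rw [e1]
    exact Submodule.sub_mem _ (mm hc hx1) (Submodule.smul_mem _ _ (mm (mm hyx1 hy1 rfl) hxx))
  have f3 : (1 - c) • (y * x * y * x * y) ∈ J ^ 6 := by
    have e1 : (1 - c) • (y * x * y * x * y) =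
        y * (x * y * x * y - c • (x * y * x * y - y * x * y * x)) -
        c • (y * y * (x * y * x)) := by
      simp only [mul_sub, mul_smul_comm, mul_assoc, sub_smul, smul_sub, one_smul]
      abel
    rw [e1]
    exact Submodule.sub_mem _ (mm hy1 hc) (Submodule.smul_mem _ _ (mm hyy (mm hxy1 hx1 rfl)))
  have f4 : c • (y * x * y * x * y) ∈ J ^ 6 := by
    have e1 : c • (y * x * y * x * y) =
        (x * y * x * y - c • (x * y * x * y - y * x * y * x)) * y -
        (1 - c) • (x * y * x * (y * y)) := by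
      simp only [sub_mul, smul_mul_assoc, mul_assoc, sub_smul, smul_sub, one_smul]
      abel
    rw [e1]
    exact Submodule.sub_mem _ (mm hc hy1) (Submodule.smul_mem _ _ (mm (mm hxy1 hx1 rfl) hyy))
  have g1 : x * y * x * y * x ∈ J ^ 6 := by
    have := Submodule.add_mem _ f1 f2
    rwa [← add_smul, add_sub_cancel, one_smul] at this
  have g2 : y * x * y * x * y ∈ J ^ 6 := by
    have := Submodule.add_mem _ f4 f3
    rwa [← add_smul, add_sub_cancel, one_smul] at this
  have h56 : J ^ 5 ≤ J ^ 6 := by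
    intro a ha
    obtain ⟨α, β, r, hr, e⟩ := exists_alt hJ hx hy hgen hxx hyy 4 a ha
    have e' : a = α • (x * y * x * y * x) + β • (y * x * y * x * y) + r := by
      rw [e]; simp [alt, mul_assoc]
    rw [e']
    exact Submodule.add_mem _ (Submodule.add_mem _ (Submodule.smul_mem _ _ g1)
      (Submodule.smul_mem _ _ g2)) hr
  have hall : ∀ k, J ^ 5 ≤ J ^ (k + 5) := by
    intro k
    induction k with
    | zero => rw [zero_add]
    | succ k ih =>
      calc J ^ 5 ≤ J ^ 6 := h56
        _ = J * J ^ 5 := pow_succ' J 5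
        _ ≤ J * J ^ (k + 5) := mul_le_mul_right ih _
        _ = J ^ (k + 1 + 5) := by rw [← pow_succ']
  obtain ⟨a, ha, ha0⟩ := h.top
  apply ha0
  have h1 : a ∈ J ^ 5 := pow_anti hJ (by omega) h5 ha
  rw [h.zero (n := m + 5) (by omega) (hall m h1), map_zero]

end Cfsg.Agent.H591.Five
end

-- part: H591/Five/Pencil
section
/-!
# Two generators: the quadratic relations

`Nil.le_four`: if `dim J / J ^ 2 = 2` and `dim J ^ 2 / J ^ 3 ≤ 2` (and `J ^ 3 ≤ [J, J ^ 2] + J ^ m`),
then `m ≤ 4`.
-/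

set_option autoImplicit false

namespace Cfsg.Agent.H591.Five

open Module

variable {K A : Type*} [Field K] [Ring A] [Algebra K A] {J : Submodule K A}
variable {lam : A →ₗ[K] K} {m : ℕ} {x y : A}

/-- A pencil of maps to a space of at most the same dimension has a singular member. -/
theorem exists_sing [IsAlgClosed K] {V W : Type*} [AddCommGroup V] [Module K V]
    [FiniteDimensional K V] [AddCommGroup W] [Module K W] [FiniteDimensional K W]
    (hV : 0 < finrank K V) (h : finrank K W ≤ finrank K V) (L₁ L₂ : V →ₗ[K] W) :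
    ∃ s t : K, (s ≠ 0 ∨ t ≠ 0) ∧ ∃ v : V, v ≠ 0 ∧ s • L₁ v + t • L₂ v = 0 := by
  have hnt : Nontrivial V := Module.nontrivial_of_finrank_pos hV
  by_cases hinj : Function.Injective L₁
  · have h1 := LinearMap.finrank_le_finrank_of_injective hinj
    have h2 : finrank K V = finrank K W := le_antisymm h1 h
    let E := LinearEquiv.ofInjectiveOfFinrankEq L₁ hinj h2
    obtain ⟨c, hc⟩ := Module.End.exists_eigenvalue ((E.symm : W →ₗ[K] V) ∘ₗ L₂)
    obtain ⟨v, hv⟩ := hc.exists_hasEigenvector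
    refine ⟨-c, 1, Or.inr one_ne_zero, v, hv.2, ?_⟩
    have h3 : E.symm (L₂ v) = c • v := Module.End.mem_eigenspace_iff.1 hv.1
    have h4 : L₂ v = c • L₁ v := by
      have := congrArg E h3
      rw [E.apply_symm_apply, map_smul] at this
      exact this
    rw [h4, one_smul, neg_smul, neg_add_cancel]
  · rw [← LinearMap.ker_eq_bot] at hinj
    obtain ⟨v, hv, hv0⟩ := Submodule.exists_mem_ne_zero_of_ne_bot hinj
    refine ⟨1, 0, Or.inl one_ne_zero, v, hv0, ?_⟩
    rw [LinearMap.mem_ker.1 hv, smul_zero, zero_smul, add_zero]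

/-- Change of generators. -/
theorem gen_change (hgen : J ≤ Submodule.span K {x, y} ⊔ J ^ 2) {α β γ δ : K}
    (hd : α * δ - β * γ ≠ 0) :
    J ≤ Submodule.span K {α • x + β • y, γ • x + δ • y} ⊔ J ^ 2 := by
  refine hgen.trans (sup_le_sup ?_ le_rfl)
  rw [Submodule.span_le]
  rintro z (rfl | hz)
  · rw [SetLike.mem_coe, Submodule.mem_span_pair]
    refine ⟨(α * δ - β * γ)⁻¹ * δ, -((α * δ - β * γ)⁻¹ * β), ?_⟩
    have e : ((α * δ - β * γ)⁻¹ * δ) • (α • z + β • y) + (-((α * δ - β * γ)⁻¹ * β)) •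
        (γ • z + δ • y) = ((α * δ - β * γ)⁻¹ * (α * δ - β * γ)) • z := by
      module
    rw [e, inv_mul_cancel₀ hd, one_smul]
  · rw [Set.mem_singleton_iff] at hz
    subst hz
    rw [SetLike.mem_coe, Submodule.mem_span_pair]
    refine ⟨-((α * δ - β * γ)⁻¹ * γ), (α * δ - β * γ)⁻¹ * α, ?_⟩
    have e : (-((α * δ - β * γ)⁻¹ * γ)) • (α • x + β • z) + ((α * δ - β * γ)⁻¹ * α) •
        (γ • x + δ • z) = ((α * δ - β * γ)⁻¹ * (α * δ - β * γ)) • z := by
      module
    rw [e, inv_mul_cancel₀ hd, one_smul]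

/-- **Two generators.** -/
theorem Nil.le_four [IsAlgClosed K] [FiniteDimensional K A] (h : Nil J lam m) (hx : x ∈ J)
    (hy : y ∈ J) (hgen : J ≤ Submodule.span K {x, y} ⊔ J ^ 2)
    (h2 : finrank K (J ^ 2 : Submodule K A) ≤ finrank K (J ^ 3 : Submodule K A) + 2) :
    m ≤ 4 := by
  by_contra hm
  have hJ := h.mul
  have h32 : J ^ 3 ≤ J ^ 2 := pow_anti hJ (by omega) (by omega)
  -- the quotient
  let Q : Submodule K (A ⧸ J ^ 3) := (J ^ 2).map (J ^ 3).mkQ
  have hQ : finrank K Q ≤ 2 := by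
    have h1 := LinearMap.finrank_range_add_finrank_ker ((J ^ 3).mkQ.domRestrict (J ^ 2))
    have h3 : LinearMap.range ((J ^ 3).mkQ.domRestrict (J ^ 2)) = Q := by
      rw [LinearMap.domRestrict, LinearMap.range_comp, Submodule.range_subtype]
    have h4 : LinearMap.ker ((J ^ 3).mkQ.domRestrict (J ^ 2)) = (J ^ 3).comap (J ^ 2).subtype := by
      ext v
      rw [LinearMap.mem_ker, LinearMap.domRestrict_apply, Submodule.mkQ_apply,
        Submodule.Quotient.mk_eq_zero]
      rfl
    rw [h3, h4, (Submodule.comapSubtypeEquivOfLe h32).finrank_eq] at h1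
    omega
  have hmkQ : ∀ {a : A}, (J ^ 3).mkQ a = 0 ↔ a ∈ J ^ 3 := fun {a} => by
    rw [Submodule.mkQ_apply, Submodule.Quotient.mk_eq_zero]
  have hxy2 : ∀ {u v : A}, u ∈ J → v ∈ J → u * v ∈ J ^ 2 := fun hu hv => mm (m1 hu) (m1 hv)
  -- the linear maps
  let V := Fin 2 → K
  let lin : V →ₗ[K] A := (LinearMap.proj 0 : V →ₗ[K] K).smulRight x +
    (LinearMap.proj 1 : V →ₗ[K] K).smulRight y
  have hlin : ∀ v : V, lin v = v 0 • x + v 1 • y := fun v => rfl
  have hlinJ : ∀ v : V, lin v ∈ J := fun v => by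
    rw [hlin]
    exact J.add_mem (J.smul_mem _ hx) (J.smul_mem _ hy)
  let L : A → (V →ₗ[K] A ⧸ J ^ 3) := fun u => (J ^ 3).mkQ ∘ₗ (LinearMap.mulLeft K u) ∘ₗ lin
  have hLQ : ∀ u ∈ J, ∀ v, L u v ∈ Q := fun u hu v => ⟨u * lin v, hxy2 hu (hlinJ v), rfl⟩
  have hVfin : finrank K V = 2 := by simp [V]
  obtain ⟨s, t, hst, v, hv0, hv⟩ := exists_sing (K := K) (V := V) (W := Q) (by omega) (by omega)
    ((L x).codRestrict Q (hLQ x hx)) ((L y).codRestrict Q (hLQ y hy))
  have hv1 : (s • x + t • y) * (v 0 • x + v 1 • y) ∈ J ^ 3 := by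
    rw [← hmkQ]
    have h3 := congrArg Subtype.val hv
    have h4 : s • (J ^ 3).mkQ (x * lin v) + t • (J ^ 3).mkQ (y * lin v) = 0 := h3
    rw [← map_smul, ← map_smul, ← map_add, ← smul_mul_assoc, ← smul_mul_assoc, ← add_mul,
      hlin] at h4
    exact h4
  have hu'J : s • x + t • y ∈ J := J.add_mem (J.smul_mem _ hx) (J.smul_mem _ hy)
  have hv'J : v 0 • x + v 1 • y ∈ J := J.add_mem (J.smul_mem _ hx) (J.smul_mem _ hy)
  by_cases hdet : s * v 1 - t * v 0 ≠ 0
  · exact h.case_a (by omega) hu'J hv'J (gen_change hgen hdet) hv1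
  push Not at hdet
  -- a square which vanishes
  obtain ⟨a, b, ha, hb, hgen', haa⟩ : ∃ a b : A, a ∈ J ∧ b ∈ J ∧
      J ≤ Submodule.span K {a, b} ⊔ J ^ 2 ∧ a * a ∈ J ^ 3 := by
    have hsq : (s • x + t • y) * (s • x + t • y) ∈ J ^ 3 := by
      -- `v' = c u'`
      obtain ⟨c, hc0, hc⟩ : ∃ c : K, c ≠ 0 ∧ v 0 • x + v 1 • y = c • (s • x + t • y) := by
        by_cases hs : s = 0
        · have ht : t ≠ 0 := hst.resolve_left fun h => h hs
          have e0 : v 0 = 0 := by
            rw [hs, zero_mul, zero_sub, neg_eq_zero] at hdet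
            exact (mul_eq_zero.1 hdet).resolve_left ht
          refine ⟨v 1 * t⁻¹, ?_, ?_⟩
          · refine mul_ne_zero (fun h1 => hv0 ?_) (inv_ne_zero ht)
            funext i
            fin_cases i
            · exact e0
            · exact h1
          · rw [hs, e0, zero_smul, zero_add, zero_add, smul_smul, mul_assoc,
              inv_mul_cancel₀ ht, mul_one]
        · refine ⟨v 0 * s⁻¹, ?_, ?_⟩
          · refine mul_ne_zero (fun h0 => hv0 ?_) (inv_ne_zero hs)
            rw [h0, mul_zero, sub_zero] at hdet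
            have h1 := (mul_eq_zero.1 hdet).resolve_left hs
            funext i
            fin_cases i
            · exact h0
            · exact h1
          · have e1 : v 1 = v 0 * s⁻¹ * t := by
              field_simp
              linear_combination hdet
            rw [smul_add, smul_smul, smul_smul, ← e1, mul_assoc, inv_mul_cancel₀ hs, mul_one]
      rw [hc, mul_smul_comm] at hv1
      exact (Submodule.smul_mem_iff _ hc0).1 hv1
    by_cases hs : s = 0
    · have ht : t ≠ 0 := hst.resolve_left fun h => h hs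
      refine ⟨_, _, hu'J, ?_, gen_change hgen (γ := 1) (δ := 0) ?_, hsq⟩
      · exact J.add_mem (J.smul_mem _ hx) (J.smul_mem _ hy)
      · simpa using ht
    · refine ⟨_, _, hu'J, ?_, gen_change hgen (γ := 0) (δ := 1) ?_, hsq⟩
      · exact J.add_mem (J.smul_mem _ hx) (J.smul_mem _ hy)
      · simpa using hs
  -- the second relation
  obtain ⟨c₁, c₂, c₃, hc, hrel⟩ : ∃ c₁ c₂ c₃ : K, (c₁ ≠ 0 ∨ c₂ ≠ 0 ∨ c₃ ≠ 0) ∧
      c₁ • (a * b) + c₂ • (b * a) + c₃ • (b * b) ∈ J ^ 3 := by
    let g : Fin 3 → Q := ![⟨_, a * b, hxy2 ha hb, rfl⟩, ⟨_, b * a, hxy2 hb ha, rfl⟩,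
      ⟨_, b * b, hxy2 hb hb, rfl⟩]
    have hg : ¬ LinearIndependent K g := by
      intro hli
      have := hli.fintype_card_le_finrank
      rw [Fintype.card_fin] at this
      omega
    rw [Fintype.not_linearIndependent_iff] at hg
    obtain ⟨c, hc, i, hi⟩ := hg
    refine ⟨c 0, c 1, c 2, ?_, ?_⟩
    · fin_cases i
      · exact Or.inl hi
      · exact Or.inr (Or.inl hi)
      · exact Or.inr (Or.inr hi)
    · rw [Fin.sum_univ_three] at hc
      rw [← hmkQ, map_add, map_add, map_smul, map_smul, map_smul]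
      exact congrArg Subtype.val hc
  by_cases h3 : c₃ = 0
  · rw [h3, zero_smul, add_zero] at hrel
    by_cases h1 : c₁ = 0
    · have hc2 : c₂ ≠ 0 := by
        rcases hc with hc | hc | hc
        · exact absurd h1 hc
        · exact hc
        · exact absurd h3 hc
      rw [h1, zero_smul, zero_add] at hrel
      refine h.case_a (by omega) hb ha ?_ ((Submodule.smul_mem_iff _ hc2).1 hrel)
      rwa [Set.pair_comm] at hgen'
    · refine h.case_c (by omega) ha hb hgen' haa (q := -(c₁⁻¹ * c₂)) ?_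
      have e : a * b - (-(c₁⁻¹ * c₂)) • (b * a) = c₁⁻¹ • (c₁ • (a * b) + c₂ • (b * a)) := by
        rw [smul_add, smul_smul, smul_smul, inv_mul_cancel₀ h1, one_smul, neg_smul, sub_neg_eq_add]
      rw [e]
      exact Submodule.smul_mem _ _ hrel
  · set β := c₃⁻¹ * c₁ with hβ
    set γ := c₃⁻¹ * c₂ with hγ
    have hprod : (b + β • a) * (b + γ • a) ∈ J ^ 3 := by
      have e : (b + β • a) * (b + γ • a) = c₃⁻¹ • (c₁ • (a * b) + c₂ • (b * a) + c₃ • (b * b)) +
          (β * γ) • (a * a) := by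
        rw [smul_add, smul_add, smul_smul, smul_smul, smul_smul, inv_mul_cancel₀ h3, one_smul,
          ← hβ, ← hγ]
        simp only [add_mul, mul_add, smul_mul_assoc, mul_smul_comm]
        module
      rw [e]
      exact Submodule.add_mem _ (Submodule.smul_mem _ _ hrel) (Submodule.smul_mem _ _ haa)
    have e1 : ∀ c : K, b + c • a = c • a + (1 : K) • b := fun c => by rw [one_smul, add_comm]
    by_cases hbg : β = γ
    · rw [← hbg] at hprod
      refine h.case_b (by omega) ha (J.add_mem hb (J.smul_mem β ha)) ?_ haa hprod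
      have := gen_change hgen' (α := 1) (β := 0) (γ := β) (δ := 1) (by simp)
      rwa [one_smul, zero_smul, add_zero, ← e1] at this
    · refine h.case_a (by omega) (J.add_mem hb (J.smul_mem β ha)) (J.add_mem hb (J.smul_mem γ ha))
        ?_ hprod
      have := gen_change hgen' (α := β) (β := 1) (γ := γ) (δ := 1)
        (by rw [mul_one, one_mul]; exact sub_ne_zero.2 hbg)
      rwa [← e1, ← e1] at this

end Cfsg.Agent.H591.Five
end

-- part: H591/Five/Net
section
/-!
# Nets of singular 3 × 3 matrices in a graded symmetric algebra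

`Gr.rank_one`: not all left multiplications `V → V ^ 2` have rank at most one;
`Gr.false_of_plane`: no plane `U` in `V` with `dim V U = 1`;
`Gr.false_of_alt`: no linear bijection `θ` with `x θ(x) = 0` on `V`.
-/

set_option autoImplicit false

namespace Cfsg.Agent.H591.Five

open Module

variable {K B : Type*} [Field K] [Ring B] [Algebra K B]
variable {V : Submodule K B} {lam : B →ₗ[K] K} {m : ℕ}

theorem finrank_span_singleton_le' (w : B) : finrank K (Submodule.span K {w}) ≤ 1 := by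
  by_cases h : w = 0
  · rw [h, Submodule.span_zero_singleton, finrank_bot]
    exact Nat.zero_le _
  · rw [finrank_span_singleton h]

theorem exists_mul_notMem {W : Submodule K B} (h : ¬ V ^ 2 ≤ W) : ∃ u ∈ V, ∃ v ∈ V, u * v ∉ W := by
  by_contra hcon
  push Not at hcon
  apply h
  rw [pow_two, Submodule.mul_le]
  exact hcon

theorem eq_zero_of_mem_mem {w₁ w₂ ξ : B} (h2 : w₂ ∉ Submodule.span K {w₁})
    (h : ξ ∈ Submodule.span K {w₁}) (h' : ξ ∈ Submodule.span K {w₂}) : ξ = 0 := by
  obtain ⟨a, ha⟩ := Submodule.mem_span_singleton.1 h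
  obtain ⟨b, rfl⟩ := Submodule.mem_span_singleton.1 h'
  by_cases hb : b = 0
  · rw [hb, zero_smul]
  · exfalso
    apply h2
    rw [Submodule.mem_span_singleton]
    refine ⟨b⁻¹ * a, ?_⟩
    rw [mul_smul, ha, smul_smul, inv_mul_cancel₀ hb, one_smul]

theorem rank_one_aux (hr : ∀ x ∈ V, ∃ w : B, ∀ v ∈ V, ∃ c : K, x * v = c • w) {x y a v : B}
    (hx : x ∈ V) (hy : y ∈ V) (ha : a ∈ V) (hv : v ∈ V) (hxa : x * a ≠ 0) (hxv : x * v = 0) :
    y * v ∈ Submodule.span K {x * a} := by
  by_contra hcon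
  obtain ⟨w, hw⟩ := hr y hy
  obtain ⟨c, hc⟩ := hw v hv
  obtain ⟨c', hc'⟩ := hw a ha
  obtain ⟨w', hw'⟩ := hr (x + y) (V.add_mem hx hy)
  obtain ⟨d, hd⟩ := hw' v hv
  obtain ⟨d', hd'⟩ := hw' a ha
  have hyv : y * v ≠ 0 := fun h => hcon (by rw [h]; exact Submodule.zero_mem _)
  have hc0 : c ≠ 0 := fun h => hyv (by rw [hc, h, zero_smul])
  rw [add_mul, hxv, zero_add] at hd
  have hd0 : d ≠ 0 := fun h => hyv (by rw [hd, h, zero_smul])
  rw [add_mul] at hd'
  have e1 : w = c⁻¹ • (y * v) := by rw [hc, smul_smul, inv_mul_cancel₀ hc0, one_smul]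
  have e2 : w' = d⁻¹ • (y * v) := by rw [hd, smul_smul, inv_mul_cancel₀ hd0, one_smul]
  have e3 : x * a = (d' * d⁻¹ - c' * c⁻¹) • (y * v) := by
    have : x * a = d' • w' - c' • w := by rw [← hd', ← hc', add_sub_cancel_right]
    rw [this, e1, e2, smul_smul, smul_smul, sub_smul]
  have h0 : d' * d⁻¹ - c' * c⁻¹ ≠ 0 := fun h => hxa (by rw [e3, h, zero_smul])
  apply hcon
  rw [Submodule.mem_span_singleton]
  refine ⟨(d' * d⁻¹ - c' * c⁻¹)⁻¹, ?_⟩
  rw [e3, smul_smul, inv_mul_cancel₀ h0, one_smul]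

theorem Gr.rank_one (h : Gr V lam m) (hV : 2 ≤ finrank K V)
    (h2 : ∀ w : B, ¬ V ^ 2 ≤ Submodule.span K {w})
    (hr : ∀ x ∈ V, ∃ w : B, ∀ v ∈ V, ∃ c : K, x * v = c • w) : False := by
  have hfin := h.fin
  obtain ⟨x₁, hx₁, v₁, hv₁, h1⟩ := exists_mul_notMem (h2 0)
  have h1' : x₁ * v₁ ≠ 0 := fun h => h1 (by rw [h]; exact Submodule.zero_mem _)
  obtain ⟨x₂, hx₂, v₂, hv₂, h22⟩ := exists_mul_notMem (h2 (x₁ * v₁))
  have h2' : x₂ * v₂ ≠ 0 := fun h => h22 (by rw [h]; exact Submodule.zero_mem _)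
  -- a kernel vector of `x₁`
  obtain ⟨v, hv, hv0, hx₁v⟩ : ∃ v ∈ V, v ≠ 0 ∧ x₁ * v = 0 := by
    let g : V →ₗ[K] B := (LinearMap.mulLeft K x₁) ∘ₗ V.subtype
    obtain ⟨w, hw⟩ := hr x₁ hx₁
    have hg : LinearMap.range g ≤ Submodule.span K {w} := by
      rintro _ ⟨v, rfl⟩
      obtain ⟨c, hc⟩ := hw v v.2
      rw [Submodule.mem_span_singleton]
      exact ⟨c, hc.symm⟩
    have h3 : finrank K (LinearMap.range g) ≤ 1 :=
      (Submodule.finrank_mono hg).trans (finrank_span_singleton_le' w)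
    have h5 := LinearMap.finrank_range_add_finrank_ker g
    have h6 : 0 < finrank K (LinearMap.ker g) := by omega
    have h7 : LinearMap.ker g ≠ ⊥ := by
      intro h
      rw [h, finrank_bot] at h6
      exact lt_irrefl _ h6
    obtain ⟨u, hu, hu0⟩ := Submodule.exists_mem_ne_zero_of_ne_bot h7
    refine ⟨u, u.2, fun h => hu0 (Subtype.ext h), ?_⟩
    rw [LinearMap.mem_ker] at hu
    exact hu
  have hx₂v : x₂ * v = 0 := by
    refine eq_zero_of_mem_mem h22 (rank_one_aux hr hx₁ hx₂ hv₁ hv h1' hx₁v) ?_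
    obtain ⟨w, hw⟩ := hr x₂ hx₂
    obtain ⟨c, hc⟩ := hw v hv
    obtain ⟨d, hd⟩ := hw v₂ hv₂
    have hd0 : d ≠ 0 := fun h => h2' (by rw [hd, h, zero_smul])
    rw [Submodule.mem_span_singleton]
    refine ⟨c * d⁻¹, ?_⟩
    rw [hd, hc, smul_smul, mul_assoc, inv_mul_cancel₀ hd0, mul_one]
  apply hv0
  refine h.eq_zero_left' hv fun y hy => ?_
  exact eq_zero_of_mem_mem h22 (rank_one_aux hr hx₁ hy hv₁ hv h1' hx₁v)
    (rank_one_aux hr hx₂ hy hv₂ hv h2' hx₂v)

/-- No plane `U` with `dim V U = 1`. -/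
theorem Gr.false_of_plane (h : Gr V lam m) {u₁ u₂ w : B} (hu₁ : u₁ ∈ V) (hu₂ : u₂ ∈ V)
    (hw : w ∈ V ^ 2) (hw0 : w ≠ 0) (h1 : ∀ x ∈ V, ∃ c : K, x * u₁ = c • w)
    (h2 : ∀ x ∈ V, ∃ c : K, x * u₂ = c • w) (hne : u₁ * u₂ ≠ u₂ * u₁) : False := by
  have h4 := h.four
  obtain ⟨x, hx, hxw⟩ : ∃ x ∈ V, x * w ≠ 0 := by
    by_contra hcon
    push Not at hcon
    exact hw0 (h.eq_zero_left (n := 2) (by omega) hw hcon)
  -- the vectors `z` and `u'`
  obtain ⟨α, β, hz0, u', hu', hzu'⟩ : ∃ α β : K, x * (α • u₁ + β • u₂) = 0 ∧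
      ∃ u' : B, (u' = u₁ ∨ u' = u₂) ∧
        (α • u₁ + β • u₂) * u' ≠ u' * (α • u₁ + β • u₂) := by
    obtain ⟨c₁, hc₁⟩ := h1 x hx
    obtain ⟨c₂, hc₂⟩ := h2 x hx
    by_cases hc : c₁ = 0
    · refine ⟨1, 0, ?_, u₂, Or.inr rfl, ?_⟩
      · rw [one_smul, zero_smul, add_zero, hc₁, hc, zero_smul]
      · rw [one_smul, zero_smul, add_zero]
        exact hne
    · refine ⟨c₂, -c₁, ?_, u₁, Or.inl rfl, ?_⟩
      · rw [mul_add, mul_smul_comm, mul_smul_comm, hc₁, hc₂, smul_smul, smul_smul, ← add_smul]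
        rw [show c₂ * c₁ + -c₁ * c₂ = 0 by ring, zero_smul]
      · intro h5
        apply hne
        rw [add_mul, mul_add, smul_mul_assoc, smul_mul_assoc, mul_smul_comm, mul_smul_comm,
          add_right_inj] at h5
        exact (smul_right_injective B (neg_ne_zero.2 hc) h5).symm
  set z := α • u₁ + β • u₂ with hz
  have hzV : z ∈ V := V.add_mem (V.smul_mem _ hu₁) (V.smul_mem _ hu₂)
  have hzu : ∀ u : B, (∃ c : K, z * u = c • w) → z * u = 0 := by
    rintro u ⟨c, hc⟩
    have h3 : c • (x * w) = 0 := by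
      rw [← mul_smul_comm, ← hc, ← mul_assoc, hz0, zero_mul]
    rw [hc, (smul_eq_zero.1 h3).resolve_right hxw, zero_smul]
  have hz1 := hzu u₁ (h1 z hzV)
  have hz2 := hzu u₂ (h2 z hzV)
  have hu'V : u' ∈ V := by rcases hu' with rfl | rfl <;> assumption
  have hzu0 : z * u' = 0 := by rcases hu' with rfl | rfl <;> assumption
  obtain ⟨d, hd⟩ : ∃ d : K, u' * z = d • w := by
    obtain ⟨c₁, hc₁⟩ := h1 u' hu'V
    obtain ⟨c₂, hc₂⟩ := h2 u' hu'V
    refine ⟨α * c₁ + β * c₂, ?_⟩
    rw [hz, mul_add, mul_smul_comm, mul_smul_comm, hc₁, hc₂, smul_smul, smul_smul, ← add_smul]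
  have hd0 : d ≠ 0 := by
    rintro rfl
    apply hzu'
    rw [hzu0, hd, zero_smul]
  have hwd : w = d⁻¹ • (u' * z) := by rw [hd, smul_smul, inv_mul_cancel₀ hd0, one_smul]
  have hwz : w * z = 0 := by
    rw [hwd, smul_mul_assoc, mul_assoc]
    have : z * z = 0 := by
      conv_lhs => rw [hz, mul_add, mul_smul_comm, mul_smul_comm]
      rw [hz1, hz2, smul_zero, smul_zero, add_zero]
    rw [this, mul_zero, smul_zero]
  apply hxw
  obtain ⟨c, hc⟩ : ∃ c : K, x * u' = c • w := by
    rcases hu' with rfl | rfl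
    · exact h1 x hx
    · exact h2 x hx
  rw [hwd, mul_smul_comm, ← mul_assoc, hc, smul_mul_assoc, hwz, smul_zero, smul_zero]

theorem pow_four_le {W : Submodule K B}
    (h : ∀ a ∈ V, ∀ b ∈ V, ∀ c ∈ V, ∀ d ∈ V, a * b * c * d ∈ W) : V ^ 4 ≤ W := by
  have e : V ^ 4 = V * V * V * V := by
    rw [pow_succ, pow_succ, pow_succ, pow_one]
  rw [e]
  refine Submodule.mul_le.2 fun x hx d hd => ?_
  have h1 : V * V * V ≤ W.comap (LinearMap.mulRight K d) := by
    refine Submodule.mul_le.2 fun x hx c hc => ?_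
    have h2 : V * V ≤ (W.comap (LinearMap.mulRight K d)).comap (LinearMap.mulRight K c) := by
      refine Submodule.mul_le.2 fun a ha b hb => ?_
      exact h a ha b hb c hc d hd
    exact h2 hx
  exact h1 hx

/-- The twisted exterior algebra has no part of degree four. -/
theorem Gr.false_of_alt (h : Gr V lam m) (X : Fin 3 → B) (hX : ∀ i, X i ∈ V)
    (ξ : Fin 3 → B →ₗ[K] K) (hξ : ∀ v ∈ V, v = ∑ i, ξ i v • X i) (θ : B →ₗ[K] B)
    (hθV : ∀ v ∈ V, θ v ∈ V) (hθ : ∀ v ∈ V, ∃ u ∈ V, θ u = v)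
    (h0 : ∀ x ∈ V, x * θ x = 0) : False := by
  have h4 := h.four
  -- anticommutation
  have hac : ∀ x ∈ V, ∀ y ∈ V, x * θ y = -(y * θ x) := by
    intro x hx y hy
    have h1 := h0 (x + y) (V.add_mem hx hy)
    rw [map_add, add_mul, mul_add, mul_add, h0 x hx, h0 y hy, zero_add, add_zero] at h1
    exact eq_neg_of_add_eq_zero_left h1
  have hV2 : ∀ v ∈ V, θ (θ v) ∈ V := fun v hv => hθV _ (hθV v hv)
  have hV3 : ∀ v ∈ V, θ (θ (θ v)) ∈ V := fun v hv => hθV _ (hV2 v hv)
  -- the alternating products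
  have hD : ∀ a ∈ V, ∀ b ∈ V, ∀ c ∈ V, ∀ d ∈ V,
      (a = b ∨ b = c ∨ c = d ∨ a = c ∨ b = d ∨ a = d) →
        a * θ b * θ (θ c) * θ (θ (θ d)) = 0 := by
    intro a ha b hb c hc d hd
    have s1 : ∀ a ∈ V, ∀ b ∈ V, ∀ c, a * θ b * c = -(b * θ a * c) := by
      intro a ha b hb c
      rw [hac a ha b hb, neg_mul]
    have s2 : ∀ a, ∀ b ∈ V, ∀ c ∈ V, a * θ b * θ (θ c) = -(a * θ c * θ (θ b)) := by
      intro a b hb c hc
      rw [mul_assoc, hac _ (hθV b hb) _ (hθV c hc), mul_neg, ← mul_assoc]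
    have s3 : ∀ a, ∀ b ∈ V, ∀ c ∈ V, a * θ (θ b) * θ (θ (θ c)) = -(a * θ (θ c) * θ (θ (θ b))) := by
      intro a b hb c hc
      rw [mul_assoc, hac _ (hV2 b hb) _ (hV2 c hc), mul_neg, ← mul_assoc]
    have t1 : ∀ a ∈ V, ∀ x y, a * θ a * x * y = 0 := by
      intro a ha x y
      rw [h0 a ha, zero_mul, zero_mul]
    have t2 : ∀ a, ∀ b ∈ V, ∀ y, a * θ b * θ (θ b) * y = 0 := by
      intro a b hb y
      rw [mul_assoc a, h0 _ (hθV b hb), mul_zero, zero_mul]
    have t3 : ∀ x, ∀ c ∈ V, x * θ (θ c) * θ (θ (θ c)) = 0 := by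
      intro x c hc
      rw [mul_assoc x, h0 _ (hV2 c hc), mul_zero]
    rintro (rfl | rfl | rfl | rfl | rfl | rfl)
    · exact t1 a ha _ _
    · exact t2 a b hb _
    · exact t3 _ c hc
    · rw [s1 a ha b hb, neg_mul, t2 b a ha, neg_zero]
    · rw [s3 (a * θ b) c hc b hb, t2 a b hb, neg_zero]
    · rw [s3 (a * θ b) c hc a ha, s2 a b hb a ha, neg_mul, t1 a ha, neg_zero, neg_zero]
  have hpig : ∀ i j k l : Fin 3, i = j ∨ j = k ∨ k = l ∨ i = k ∨ j = l ∨ i = l := by decide
  have hbasis : ∀ i j k l : Fin 3, X i * θ (X j) * θ (θ (X k)) * θ (θ (θ (X l))) = 0 := by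
    intro i j k l
    apply hD _ (hX i) _ (hX j) _ (hX k) _ (hX l)
    rcases hpig i j k l with h | h | h | h | h | h
    · exact Or.inl (by rw [h])
    · exact Or.inr (Or.inl (by rw [h]))
    · exact Or.inr (Or.inr (Or.inl (by rw [h])))
    · exact Or.inr (Or.inr (Or.inr (Or.inl (by rw [h]))))
    · exact Or.inr (Or.inr (Or.inr (Or.inr (Or.inl (by rw [h])))))
    · exact Or.inr (Or.inr (Or.inr (Or.inr (Or.inr (by rw [h])))))
  have hall : ∀ a ∈ V, ∀ b ∈ V, ∀ c ∈ V, ∀ d ∈ V,
      a * θ b * θ (θ c) * θ (θ (θ d)) = 0 := by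
    have k1 : ∀ i j k, ∀ d ∈ V, X i * θ (X j) * θ (θ (X k)) * θ (θ (θ d)) = 0 := by
      intro i j k d hd
      rw [hξ d hd, map_sum, map_sum, map_sum, Finset.mul_sum]
      refine Finset.sum_eq_zero fun l _ => ?_
      rw [map_smul, map_smul, map_smul, mul_smul_comm, hbasis, smul_zero]
    have k2 : ∀ i j, ∀ c ∈ V, ∀ d ∈ V, X i * θ (X j) * θ (θ c) * θ (θ (θ d)) = 0 := by
      intro i j c hc d hd
      rw [hξ c hc, map_sum, map_sum, Finset.mul_sum, Finset.sum_mul]
      refine Finset.sum_eq_zero fun k _ => ?_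
      rw [map_smul, map_smul, mul_smul_comm, smul_mul_assoc, k1 _ _ _ d hd, smul_zero]
    have k3 : ∀ i, ∀ b ∈ V, ∀ c ∈ V, ∀ d ∈ V, X i * θ b * θ (θ c) * θ (θ (θ d)) = 0 := by
      intro i b hb c hc d hd
      rw [hξ b hb, map_sum, Finset.mul_sum, Finset.sum_mul, Finset.sum_mul]
      refine Finset.sum_eq_zero fun j _ => ?_
      rw [map_smul, mul_smul_comm, smul_mul_assoc, smul_mul_assoc, k2 _ _ c hc d hd, smul_zero]
    intro a ha b hb c hc d hd
    rw [hξ a ha, Finset.sum_mul, Finset.sum_mul, Finset.sum_mul]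
    refine Finset.sum_eq_zero fun i _ => ?_
    rw [smul_mul_assoc, smul_mul_assoc, smul_mul_assoc, k3 _ b hb c hc d hd, smul_zero]
  apply h.top
  have h5 : V ^ 4 = ⊥ := by
    rw [eq_bot_iff]
    refine pow_four_le fun a ha b hb c hc d hd => ?_
    obtain ⟨b', hb', rfl⟩ := hθ b hb
    obtain ⟨c₁, hc₁, rfl⟩ := hθ c hc
    obtain ⟨c', hc', rfl⟩ := hθ c₁ hc₁
    obtain ⟨d₁, hd₁, rfl⟩ := hθ d hd
    obtain ⟨d₂, hd₂, rfl⟩ := hθ d₁ hd₁
    obtain ⟨d', hd', rfl⟩ := hθ d₂ hd₂
    rw [Submodule.mem_bot]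
    exact hall a ha b' hb' c' hc' d' hd'
  obtain ⟨k, rfl⟩ := Nat.exists_eq_add_of_le h4
  rw [pow_add, h5, Submodule.bot_mul]

end Cfsg.Agent.H591.Five
end

-- part: H591/Five/NetMain
section
/-!
# Nets of singular matrices: the contradiction

`Gr.false_of_sing`: in a graded symmetric algebra with `dim V = dim V ^ 2 = 3`, generated by
commutators in degree two, some left multiplication `V → V ^ 2` is bijective.
-/

set_option autoImplicit false

namespace Cfsg.Agent.H591.Five

open Module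

variable {K B : Type*} [Field K] [Ring B] [Algebra K B]
variable {V : Submodule K B} {lam : B →ₗ[K] K} {m : ℕ}

instance (a b : B) : FiniteDimensional K (Submodule.span K ({a, b} : Set B)) :=
  FiniteDimensional.span_of_finite K (Set.toFinite _)

theorem finrank_span_pair_le (a b : B) : finrank K (Submodule.span K ({a, b} : Set B)) ≤ 2 := by
  classical
  have := finrank_span_finset_le_card (R := K) ({a, b} : Finset B)
  simp only [Finset.coe_insert, Finset.coe_singleton] at this
  exact this.trans Finset.card_le_two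

theorem cubic_zero [Infinite K] {a b c d : K} (h : ∀ t : K, a + b * t + c * t ^ 2 + d * t ^ 3 = 0) :
    a = 0 ∧ b = 0 ∧ c = 0 ∧ d = 0 := by
  let P : Polynomial K := Polynomial.C a + Polynomial.C b * Polynomial.X +
    Polynomial.C c * Polynomial.X ^ 2 + Polynomial.C d * Polynomial.X ^ 3
  have hP : P = 0 := Polynomial.funext (by intro t; simpa [P] using h t)
  have h0 := congrArg (fun q => q.coeff 0) hP
  have h1 := congrArg (fun q => q.coeff 1) hP
  have h2 := congrArg (fun q => q.coeff 2) hP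
  have h3 := congrArg (fun q => q.coeff 3) hP
  simp [P, Polynomial.coeff_X, Polynomial.coeff_C, Polynomial.coeff_X_pow] at h0 h1 h2 h3
  exact ⟨h0, h1, h2, h3⟩

theorem li3_iff {f₁ f₂ f₃ : B} : LinearIndependent K ![f₁, f₂, f₃] ↔
    ∀ a b c : K, a • f₁ + b • f₂ + c • f₃ = 0 → a = 0 ∧ b = 0 ∧ c = 0 := by
  rw [Fintype.linearIndependent_iff]
  constructor
  · intro h a b c habc
    have := h ![a, b, c] (by
      rw [Fin.sum_univ_three]
      exact habc)
    exact ⟨this 0, this 1, this 2⟩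
  · intro h g hg i
    rw [Fin.sum_univ_three] at hg
    obtain ⟨h0, h1, h2⟩ := h _ _ _ hg
    fin_cases i
    · exact h0
    · exact h1
    · exact h2

theorem exists_coords {W : Submodule K B} (hW : finrank K W = 3) (f : Fin 3 → B)
    (hf : ∀ i, f i ∈ W) (hli : LinearIndependent K f) : ∃ φ : Fin 3 → B →ₗ[K] K,
    (∀ ξ ∈ W, ξ = ∑ i, φ i ξ • f i) ∧ ∀ i j, φ i (f j) = if i = j then 1 else 0 := by
  let g : Fin 3 → W := fun i => ⟨f i, hf i⟩
  have hg : LinearIndependent K g := by
    apply LinearIndependent.of_comp W.subtype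
    exact hli
  let b := basisOfLinearIndependentOfCardEqFinrank hg (by rw [Fintype.card_fin, hW])
  have hb : ∀ i, b i = g i := fun i => by
    simp [b]
  have hex : ∀ i, ∃ φ : B →ₗ[K] K, φ ∘ₗ W.subtype = b.coord i := fun i =>
    LinearMap.exists_extend (b.coord i)
  choose φ hφ using hex
  have hφ' : ∀ i, ∀ ξ : W, φ i (ξ : B) = b.coord i ξ := fun i ξ =>
    congrArg (fun l : W →ₗ[K] K => l ξ) (hφ i)
  refine ⟨φ, ?_, ?_⟩
  · intro ξ hξ
    have h1 := b.sum_repr ⟨ξ, hξ⟩
    calc ξ = ((∑ i, b.repr ⟨ξ, hξ⟩ i • b i : W) : B) := by rw [h1]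
      _ = ∑ i, ((b.repr ⟨ξ, hξ⟩ i • b i : W) : B) := AddSubmonoidClass.coe_finsetSum _ _
      _ = ∑ i, φ i ξ • f i := by
        refine Finset.sum_congr rfl fun i _ => ?_
        have h3 : φ i ξ = b.repr ⟨ξ, hξ⟩ i := hφ' i ⟨ξ, hξ⟩
        rw [Submodule.coe_smul, hb, h3]
  · intro i j
    have := hφ' i (g j)
    rw [← hb, Basis.coord_apply, Basis.repr_self, Finsupp.single_apply] at this
    rw [hb] at this
    simp only [g] at this
    rw [this]
    simp only [eq_comm]

/-- Kernel vectors of the left multiplications. -/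
theorem exists_ker [FiniteDimensional K V] (hV : finrank K V = 3)
    (hS : finrank K (V ^ 2 : Submodule K B) = 3)
    {x : B} (hx : x ∈ V) (hsing : ¬ ∀ a ∈ V ^ 2, ∃ v ∈ V, a = x * v) :
    ∃ v ∈ V, v ≠ 0 ∧ x * v = 0 := by
  by_contra hcon
  push Not at hcon
  apply hsing
  have hfin2 := finite_pow (K := K) (V := V) inferInstance 2
  let g : V →ₗ[K] (V ^ 2 : Submodule K B) :=
    ((LinearMap.mulLeft K x) ∘ₗ V.subtype).codRestrict (V ^ 2) fun v => mul_mem_sq hx v.2
  have hg : Function.Injective g := by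
    rw [← LinearMap.ker_eq_bot, LinearMap.ker_eq_bot']
    intro v hv
    by_contra hv0
    exact hcon v v.2 (fun h => hv0 (Subtype.ext h)) (congrArg Subtype.val hv)
  have hg2 : Function.Surjective g :=
    (LinearMap.injective_iff_surjective_of_finrank_eq_finrank (by rw [hV, hS])).1 hg
  intro a ha
  obtain ⟨v, hv⟩ := hg2 ⟨a, ha⟩
  exact ⟨v, v.2, (congrArg Subtype.val hv).symm⟩

theorem smul_coords {W : Submodule K B} {φ : Fin 3 → B →ₗ[K] K} {f : Fin 3 → B}
    (hφ : ∀ ξ ∈ W, ξ = ∑ i, φ i ξ • f i) {ξ : B} (hξ : ξ ∈ W) :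
    ξ = φ 0 ξ • f 0 + φ 1 ξ • f 1 + φ 2 ξ • f 2 := by
  have := hφ ξ hξ
  rwa [Fin.sum_univ_three] at this

/-- The conditions on the perturbations of a left multiplication of rank two. -/
theorem perturb [Infinite K] [FiniteDimensional K V] (hV : finrank K V = 3)
    (hS : finrank K (V ^ 2 : Submodule K B) = 3)
    (hsing : ∀ x ∈ V, ¬ ∀ a ∈ V ^ 2, ∃ v ∈ V, a = x * v) {x₀ a₁ a₂ y₀ e : B}
    (hx₀ : x₀ ∈ V) (ha₁ : a₁ ∈ V) (ha₂ : a₂ ∈ V) (hy₀ : y₀ ∈ V) (hy0 : y₀ ≠ 0)
    (hxy : x₀ * y₀ = 0) {φ : Fin 3 → B →ₗ[K] K}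
    (hli : LinearIndependent K ![x₀ * a₁, x₀ * a₂, e])
    (hφ : ∀ i j, φ i (![x₀ * a₁, x₀ * a₂, e] j) = if i = j then 1 else 0) {x : B} (hx : x ∈ V) :
    φ 2 (x * y₀) = 0 ∧
    φ 0 (x * y₀) * φ 2 (x * a₁) + φ 1 (x * y₀) * φ 2 (x * a₂) = 0 ∧
    φ 0 (x * a₁) * φ 1 (x * y₀) * φ 2 (x * a₂) - φ 0 (x * a₂) * φ 1 (x * y₀) * φ 2 (x * a₁) -
      φ 0 (x * y₀) * φ 1 (x * a₁) * φ 2 (x * a₂) + φ 0 (x * y₀) * φ 1 (x * a₂) * φ 2 (x * a₁) =
      0 := by
  rw [li3_iff] at hli
  have h00 : φ 0 (x₀ * a₁) = 1 := hφ 0 0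
  have h10 : φ 1 (x₀ * a₁) = 0 := hφ 1 0
  have h20 : φ 2 (x₀ * a₁) = 0 := hφ 2 0
  have h01 : φ 0 (x₀ * a₂) = 0 := hφ 0 1
  have h11 : φ 1 (x₀ * a₂) = 1 := hφ 1 1
  have h21 : φ 2 (x₀ * a₂) = 0 := hφ 2 1
  -- `a₁, a₂, y₀` is a basis of `V`
  have hli2 : LinearIndependent K ![a₁, a₂, y₀] := by
    rw [li3_iff]
    intro a b c h
    have h1 : a • (x₀ * a₁) + b • (x₀ * a₂) + (0 : K) • e = 0 := by
      have := congrArg (fun z => x₀ * z) h
      simp only [mul_add, mul_smul_comm, hxy, smul_zero, add_zero, mul_zero] at this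
      rw [zero_smul, add_zero, this]
    obtain ⟨ha, hb, -⟩ := hli _ _ _ h1
    refine ⟨ha, hb, ?_⟩
    rw [ha, hb, zero_smul, zero_smul, zero_add, zero_add] at h
    exact (smul_eq_zero.1 h).resolve_right hy0
  obtain ⟨ψ, hψ, -⟩ := exists_coords hV ![a₁, a₂, y₀] (by
    intro i
    fin_cases i
    · exact ha₁
    · exact ha₂
    · exact hy₀) hli2
  -- the determinant vanishes
  have hdet : ∀ x ∈ V, φ 0 (x * a₁) * (φ 1 (x * a₂) * φ 2 (x * y₀) - φ 1 (x * y₀) * φ 2 (x * a₂)) -
      φ 0 (x * a₂) * (φ 1 (x * a₁) * φ 2 (x * y₀) - φ 1 (x * y₀) * φ 2 (x * a₁)) +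
      φ 0 (x * y₀) * (φ 1 (x * a₁) * φ 2 (x * a₂) - φ 1 (x * a₂) * φ 2 (x * a₁)) = 0 := by
    intro x hx
    obtain ⟨v, hv, hv0, hxv⟩ := exists_ker hV hS hx (hsing x hx)
    have hvc := smul_coords hψ hv
    let N : Matrix (Fin 3) (Fin 3) K := !![φ 0 (x * a₁), φ 0 (x * a₂), φ 0 (x * y₀);
      φ 1 (x * a₁), φ 1 (x * a₂), φ 1 (x * y₀); φ 2 (x * a₁), φ 2 (x * a₂), φ 2 (x * y₀)]
    have hN : N.det = 0 := by
      rw [← Matrix.exists_mulVec_eq_zero_iff]
      refine ⟨![ψ 0 v, ψ 1 v, ψ 2 v], ?_, ?_⟩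
      · intro h
        apply hv0
        have e0 : ψ 0 v = 0 := congrFun h 0
        have e1 : ψ 1 v = 0 := congrFun h 1
        have e2 : ψ 2 v = 0 := congrFun h 2
        rw [hvc, e0, e1, e2]
        simp
      · have h2 : ∀ i, φ i (x * a₁) * ψ 0 v + φ i (x * a₂) * ψ 1 v + φ i (x * y₀) * ψ 2 v = 0 := by
          intro i
          have h3 := congrArg (fun z => φ i (x * z)) hvc
          simp only [hxv, map_zero] at h3
          have h4 : φ i (x * (ψ 0 v • ![a₁, a₂, y₀] 0 + ψ 1 v • ![a₁, a₂, y₀] 1 +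
              ψ 2 v • ![a₁, a₂, y₀] 2)) = φ i (x * a₁) * ψ 0 v + φ i (x * a₂) * ψ 1 v +
              φ i (x * y₀) * ψ 2 v := by
            simp only [Matrix.cons_val_zero, Matrix.cons_val_one, Matrix.cons_val_two,
              mul_add, mul_smul_comm, map_add, map_smul, smul_eq_mul, Matrix.head_cons,
              Matrix.tail_cons]
            ring
          rw [← h4, ← h3]
        ext i
        fin_cases i
        · simpa [N, Matrix.mulVec, dotProduct, Fin.sum_univ_three] using h2 0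
        · simpa [N, Matrix.mulVec, dotProduct, Fin.sum_univ_three] using h2 1
        · simpa [N, Matrix.mulVec, dotProduct, Fin.sum_univ_three] using h2 2
    rw [Matrix.det_fin_three] at hN
    simp only [N, Matrix.of_apply, Matrix.cons_val', Matrix.cons_val_zero, Matrix.cons_val_one,
      Matrix.cons_val] at hN
    linear_combination hN
  -- perturb
  have hpoly : ∀ t : K, (φ 0 (x * a₁) * (φ 1 (x * a₂) * φ 2 (x * y₀) - φ 1 (x * y₀) * φ 2 (x * a₂)) -
      φ 0 (x * a₂) * (φ 1 (x * a₁) * φ 2 (x * y₀) - φ 1 (x * y₀) * φ 2 (x * a₁)) +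
      φ 0 (x * y₀) * (φ 1 (x * a₁) * φ 2 (x * a₂) - φ 1 (x * a₂) * φ 2 (x * a₁))) +
      (φ 0 (x * a₁) * φ 2 (x * y₀) + φ 1 (x * a₂) * φ 2 (x * y₀) - φ 0 (x * y₀) * φ 2 (x * a₁) -
        φ 1 (x * y₀) * φ 2 (x * a₂)) * t + φ 2 (x * y₀) * t ^ 2 + 0 * t ^ 3 = 0 := by
    intro t
    have h1 := hdet (t • x₀ + x) (V.add_mem (V.smul_mem _ hx₀) hx)
    simp only [add_mul, smul_mul_assoc, map_add, map_smul, smul_eq_mul, h00, h10, h20, h01, h11,
      h21, hxy, map_zero, mul_zero, mul_one, zero_add] at h1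
    linear_combination h1
  obtain ⟨c0, c1, c2, -⟩ := cubic_zero hpoly
  refine ⟨c2, ?_, ?_⟩
  · rw [c2] at c1
    linear_combination -c1
  · rw [c2] at c0
    linear_combination -c0

/-- Commutators of independent elements do not vanish. -/
theorem comm_ne [FiniteDimensional K V] (hV : finrank K V = 3)
    (hS : finrank K (V ^ 2 : Submodule K B) = 3) (hcm : V ^ 2 ≤ cm V V) {u₁ u₂ : B}
    (hu₁ : u₁ ∈ V) (hu₂ : u₂ ∈ V) (hli : LinearIndependent K ![u₁, u₂]) :
    u₁ * u₂ ≠ u₂ * u₁ := by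
  intro heq
  -- complete to a basis
  obtain ⟨u₃, hu₃, h3⟩ : ∃ u₃ ∈ V, u₃ ∉ Submodule.span K {u₁, u₂} := by
    by_contra hcon
    push Not at hcon
    have h1 : V ≤ Submodule.span K {u₁, u₂} := hcon
    have h2 := finrank_span_pair_le (K := K) u₁ u₂
    have h3 := Submodule.finrank_mono h1
    omega
  have hli3 : LinearIndependent K ![u₁, u₂, u₃] := by
    rw [li3_iff]
    intro a b c habc
    have hc : c = 0 := by
      by_contra hc
      apply h3
      rw [Submodule.mem_span_pair]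
      refine ⟨-(c⁻¹ * a), -(c⁻¹ * b), ?_⟩
      have h4 : c • u₃ = -(a • u₁) - b • u₂ := by
        rw [eq_sub_iff_add_eq, eq_neg_iff_add_eq_zero, ← habc]
        abel
      have h5 : u₃ = c⁻¹ • (c • u₃) := by rw [smul_smul, inv_mul_cancel₀ hc, one_smul]
      rw [h5, h4, smul_sub, smul_neg, smul_smul, smul_smul, neg_smul, neg_smul, sub_eq_add_neg]
    rw [hc, zero_smul, add_zero] at habc
    have h4 := LinearIndependent.pair_iff.1 hli a b habc
    exact ⟨h4.1, h4.2, hc⟩
  obtain ⟨ψ, hψ, -⟩ := exists_coords hV ![u₁, u₂, u₃] (by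
    intro i
    fin_cases i
    · exact hu₁
    · exact hu₂
    · exact hu₃) hli3
  have h1 : cm V V ≤ Submodule.span K {u₁ * u₃ - u₃ * u₁, u₂ * u₃ - u₃ * u₂} := by
    rw [cm, Submodule.span_le]
    rintro _ ⟨x, hx, y, hy, rfl⟩
    have ex := smul_coords hψ hx
    have ey := smul_coords hψ hy
    simp only [Matrix.cons_val_zero, Matrix.cons_val_one, Matrix.cons_val] at ex ey
    rw [SetLike.mem_coe, Submodule.mem_span_pair]
    refine ⟨ψ 0 x * ψ 2 y - ψ 2 x * ψ 0 y, ψ 1 x * ψ 2 y - ψ 2 x * ψ 1 y, ?_⟩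
    generalize ψ 0 x = x0 at *
    generalize ψ 1 x = x1 at *
    generalize ψ 2 x = x2 at *
    generalize ψ 0 y = y0 at *
    generalize ψ 1 y = y1 at *
    generalize ψ 2 y = y2 at *
    rw [ex, ey]
    simp only [add_mul, mul_add, smul_mul_assoc, mul_smul_comm, smul_sub]
    rw [heq]
    module
  have h2 := finrank_span_pair_le (K := K) (u₁ * u₃ - u₃ * u₁) (u₂ * u₃ - u₃ * u₂)
  have h3 := Submodule.finrank_mono (hcm.trans h1)
  omega

/-- The product of two nonzero linear forms does not vanish. -/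
theorem exists_ne_zero_two {V : Submodule K B} {σ τ : B → K}
    (hσ : ∀ x ∈ V, ∀ y ∈ V, σ (x + y) = σ x + σ y) (hτ : ∀ x ∈ V, ∀ y ∈ V, τ (x + y) = τ x + τ y)
    (h1 : ∃ x ∈ V, σ x ≠ 0) (h2 : ∃ x ∈ V, τ x ≠ 0) : ∃ x ∈ V, σ x ≠ 0 ∧ τ x ≠ 0 := by
  obtain ⟨u, hu, hσu⟩ := h1
  obtain ⟨v, hv, hτv⟩ := h2
  by_cases h3 : τ u = 0
  · by_cases h4 : σ v = 0
    · refine ⟨u + v, V.add_mem hu hv, ?_, ?_⟩
      · rw [hσ u hu v hv, h4, add_zero]; exact hσu
      · rw [hτ u hu v hv, h3, zero_add]; exact hτv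
    · exact ⟨v, hv, h4, hτv⟩
  · exact ⟨u, hu, hσu, h3⟩

theorem exists_ne_zero_three [Infinite K] {V : Submodule K B} {σ τ ρ : B →ₗ[K] K}
    (h1 : ∃ x ∈ V, σ x ≠ 0) (h2 : ∃ x ∈ V, τ x ≠ 0) (h3 : ∃ x ∈ V, ρ x ≠ 0) :
    ∃ x ∈ V, σ x * τ x * ρ x ≠ 0 := by
  obtain ⟨u, hu, hσu, hτu⟩ := exists_ne_zero_two (σ := σ) (τ := τ) (fun x _ y _ => map_add σ x y)
    (fun x _ y _ => map_add τ x y) h1 h2
  obtain ⟨v, hv, hρv⟩ := h3
  by_contra hcon
  push Not at hcon
  have h4 : ∀ t : K, (σ u * τ u * ρ u) + (σ v * τ u * ρ u + σ u * τ v * ρ u + σ u * τ u * ρ v) * t +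
      (σ v * τ v * ρ u + σ v * τ u * ρ v + σ u * τ v * ρ v) * t ^ 2 + (σ v * τ v * ρ v) * t ^ 3 =
      0 := by
    intro t
    have := hcon (u + t • v) (V.add_mem hu (V.smul_mem _ hv))
    simp only [map_add, map_smul, smul_eq_mul] at this
    linear_combination this
  obtain ⟨c0, c1, -, -⟩ := cubic_zero h4
  have h5 : ρ u = 0 := (mul_eq_zero.1 c0).resolve_left (mul_ne_zero hσu hτu)
  rw [h5, mul_zero, mul_zero, zero_add, zero_add] at c1
  exact mul_ne_zero (mul_ne_zero hσu hτu) hρv c1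

/-- The case of a rank-one right multiplication. -/
theorem Gr.false_of_A [Infinite K] (h : Gr V lam m) (hV : finrank K V = 3)
    (hS : finrank K (V ^ 2 : Submodule K B) = 3) (hcm : V ^ 2 ≤ cm V V)
    (hsing : ∀ x ∈ V, ¬ ∀ a ∈ V ^ 2, ∃ v ∈ V, a = x * v) {x₀ a₁ a₂ y₀ e w : B}
    (hx₀ : x₀ ∈ V) (ha₁ : a₁ ∈ V) (ha₂ : a₂ ∈ V) (hy₀ : y₀ ∈ V) (hy0 : y₀ ≠ 0)
    (hxy : x₀ * y₀ = 0) (he : e ∈ V ^ 2)
    (hli : LinearIndependent K ![x₀ * a₁, x₀ * a₂, e])
    (hw : x₀ * a₁ = w) (hyw : ∀ x ∈ V, ∃ c : K, x * y₀ = c • w) : False := by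
  have hfin := h.fin
  obtain ⟨φ, hφ, hφ'⟩ := exists_coords hS ![x₀ * a₁, x₀ * a₂, e] (by
    intro i
    fin_cases i
    · exact mul_mem_sq hx₀ ha₁
    · exact mul_mem_sq hx₀ ha₂
    · exact he) hli
  have hper := fun x (hx : x ∈ V) => perturb hV hS hsing hx₀ ha₁ ha₂ hy₀ hy0 hxy hli hφ' hx
  have h00 : φ 0 (x₀ * a₁) = 1 := hφ' 0 0
  have h10 : φ 1 (x₀ * a₁) = 0 := hφ' 1 0
  have h2e : φ 2 e = 1 := hφ' 2 2
  have hli' := li3_iff.1 hli
  have hw0 : w ≠ 0 := by
    intro h0
    rw [hw, h0] at h00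
    simp at h00
  have h1y : ∀ x ∈ V, φ 1 (x * y₀) = 0 := by
    intro x hx
    obtain ⟨c, hc⟩ := hyw x hx
    rw [hc, ← hw, map_smul, h10, smul_zero]
  -- the three linear forms
  let σ : B →ₗ[K] K := φ 0 ∘ₗ LinearMap.mulRight K y₀
  let q : B →ₗ[K] K := φ 2 ∘ₗ LinearMap.mulRight K a₁
  let q' : B →ₗ[K] K := φ 2 ∘ₗ LinearMap.mulRight K a₂
  let ρ : B →ₗ[K] K := φ 1 ∘ₗ LinearMap.mulRight K a₁
  have hσ : ∃ x ∈ V, σ x ≠ 0 := by
    by_contra hcon
    push Not at hcon
    apply hy0
    refine h.eq_zero_left' hy₀ fun x hx => ?_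
    have h1 := smul_coords hφ (mul_mem_sq hx hy₀)
    have h2 : φ 0 (x * y₀) = 0 := hcon x hx
    rw [h2, h1y x hx, (hper x hx).1] at h1
    simpa using h1
  have hq0 : ∀ x ∈ V, q x = 0 := by
    by_contra hcon
    push Not at hcon
    obtain ⟨x, hx, h1, h2⟩ := exists_ne_zero_two (σ := σ) (τ := q) (fun x _ y _ => map_add σ x y)
      (fun x _ y _ => map_add q x y) hσ hcon
    have h3 := (hper x hx).2.1
    rw [h1y x hx, zero_mul, add_zero] at h3
    exact mul_ne_zero h1 h2 h3
  -- a basis of `V`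
  have hliV : LinearIndependent K ![a₁, a₂, y₀] := by
    rw [li3_iff]
    intro a b c h
    have h1 : a • (x₀ * a₁) + b • (x₀ * a₂) + (0 : K) • e = 0 := by
      have := congrArg (fun z => x₀ * z) h
      simp only [mul_add, mul_smul_comm, hxy, smul_zero, add_zero, mul_zero] at this
      rw [zero_smul, add_zero, this]
    obtain ⟨ha, hb, -⟩ := hli' _ _ _ h1
    refine ⟨ha, hb, ?_⟩
    rw [ha, hb, zero_smul, zero_smul, zero_add, zero_add] at h
    exact (smul_eq_zero.1 h).resolve_right hy0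
  obtain ⟨ψ, hψ, -⟩ := exists_coords hV ![a₁, a₂, y₀] (by
    intro i
    fin_cases i
    · exact ha₁
    · exact ha₂
    · exact hy₀) hliV
  have hq' : ∃ x ∈ V, q' x ≠ 0 := by
    by_contra hcon
    push Not at hcon
    have h1 : V ^ 2 ≤ LinearMap.ker (φ 2) := by
      rw [pow_two, Submodule.mul_le]
      intro x hx v hv
      rw [LinearMap.mem_ker]
      have h2 := smul_coords hψ hv
      simp only [Matrix.cons_val_zero, Matrix.cons_val_one, Matrix.cons_val] at h2
      have h3 : φ 2 (x * a₁) = 0 := hq0 x hx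
      have h4 : φ 2 (x * a₂) = 0 := hcon x hx
      rw [h2, mul_add, mul_add, mul_smul_comm, mul_smul_comm, mul_smul_comm, map_add, map_add,
        map_smul, map_smul, map_smul, h3, h4, (hper x hx).1]
      simp
    have h2 := LinearMap.mem_ker.1 (h1 he)
    rw [h2e] at h2
    exact one_ne_zero h2
  have hρ0 : ∀ x ∈ V, ρ x = 0 := by
    by_contra hcon
    push Not at hcon
    obtain ⟨x, hx, h1⟩ := exists_ne_zero_three hσ hcon hq'
    apply h1
    have h3 := (hper x hx).2.2
    have h4 : φ 2 (x * a₁) = 0 := hq0 x hx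
    rw [h1y x hx, h4] at h3
    show φ 0 (x * y₀) * φ 1 (x * a₁) * φ 2 (x * a₂) = 0
    linear_combination -h3
  -- the plane `⟨y₀, a₁⟩`
  refine h.false_of_plane hy₀ ha₁ (w := w) (hw ▸ mul_mem_sq hx₀ ha₁) hw0 hyw ?_ ?_
  · intro x hx
    refine ⟨φ 0 (x * a₁), ?_⟩
    have h1 := smul_coords hφ (mul_mem_sq hx ha₁)
    have h2 : φ 1 (x * a₁) = 0 := hρ0 x hx
    have h3 : φ 2 (x * a₁) = 0 := hq0 x hx
    rw [h2, h3] at h1
    simp only [Matrix.cons_val_zero, hw, zero_smul, add_zero] at h1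
    exact h1
  · apply comm_ne hV hS hcm hy₀ ha₁
    rw [LinearIndependent.pair_iff]
    intro s t hst
    have h1 := li3_iff.1 hliV t 0 s (by rw [zero_smul, add_zero, add_comm, hst])
    exact ⟨h1.2.2, h1.1⟩

/-- The case of a rank-two right multiplication. -/
theorem Gr.false_of_B [Infinite K] (h : Gr V lam m) (hV : finrank K V = 3)
    (hS : finrank K (V ^ 2 : Submodule K B) = 3)
    (hsing : ∀ x ∈ V, ¬ ∀ a ∈ V ^ 2, ∃ v ∈ V, a = x * v) {x₀ a₁ a₂ y₀ e p q : B}
    (hx₀ : x₀ ∈ V) (ha₁ : a₁ ∈ V) (ha₂ : a₂ ∈ V) (hy₀ : y₀ ∈ V) (hy0 : y₀ ≠ 0)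
    (hxy : x₀ * y₀ = 0) (he : e ∈ V ^ 2)
    (hli : LinearIndependent K ![x₀ * a₁, x₀ * a₂, e])
    (hp : p ∈ V) (hq : q ∈ V) (hpy : p * y₀ = x₀ * a₁) (hqy : q * y₀ = x₀ * a₂) : False := by
  have hfin := h.fin
  obtain ⟨φ, hφ, hφ'⟩ := exists_coords hS ![x₀ * a₁, x₀ * a₂, e] (by
    intro i
    fin_cases i
    · exact mul_mem_sq hx₀ ha₁
    · exact mul_mem_sq hx₀ ha₂
    · exact he) hli
  have hper := fun x (hx : x ∈ V) => perturb hV hS hsing hx₀ ha₁ ha₂ hy₀ hy0 hxy hli hφ' hx
  have h00 : φ 0 (x₀ * a₁) = 1 := hφ' 0 0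
  have h10 : φ 1 (x₀ * a₁) = 0 := hφ' 1 0
  have h20 : φ 2 (x₀ * a₁) = 0 := hφ' 2 0
  have h01 : φ 0 (x₀ * a₂) = 0 := hφ' 0 1
  have h11 : φ 1 (x₀ * a₂) = 1 := hφ' 1 1
  have h21 : φ 2 (x₀ * a₂) = 0 := hφ' 2 1
  have h2e : φ 2 e = 1 := hφ' 2 2
  have hli' := li3_iff.1 hli
  have hper' : ∀ β γ : K, β * (β * φ 2 (p * a₁) + γ * φ 2 (q * a₁)) +
      γ * (β * φ 2 (p * a₂) + γ * φ 2 (q * a₂)) = 0 ∧
      (β * φ 0 (p * a₁) + γ * φ 0 (q * a₁)) * γ * (β * φ 2 (p * a₂) + γ * φ 2 (q * a₂)) -
      (β * φ 0 (p * a₂) + γ * φ 0 (q * a₂)) * γ * (β * φ 2 (p * a₁) + γ * φ 2 (q * a₁)) -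
      β * (β * φ 1 (p * a₁) + γ * φ 1 (q * a₁)) * (β * φ 2 (p * a₂) + γ * φ 2 (q * a₂)) +
      β * (β * φ 1 (p * a₂) + γ * φ 1 (q * a₂)) * (β * φ 2 (p * a₁) + γ * φ 2 (q * a₁)) = 0 := by
    intro β γ
    have h1 := hper (β • p + γ • q) (V.add_mem (V.smul_mem _ hp) (V.smul_mem _ hq))
    simp only [add_mul, smul_mul_assoc, map_add, map_smul, smul_eq_mul, hpy, hqy, h00, h10, h20,
      h01, h11, h21, mul_one, mul_zero, add_zero, zero_add] at h1
    exact ⟨by linear_combination h1.2.1, by linear_combination h1.2.2⟩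
  have k1 : φ 2 (p * a₁) = 0 := by
    have := (hper' 1 0).1
    simpa using this
  have k2 : φ 2 (q * a₂) = 0 := by
    have := (hper' 0 1).1
    simpa using this
  have k3 : φ 2 (p * a₂) = -φ 2 (q * a₁) := by
    have := (hper' 1 1).1
    rw [k1, k2] at this
    linear_combination this
  set κ := φ 2 (q * a₁) with hκ
  have hcub : ∀ t : K, κ * φ 1 (p * a₁) + (κ * (φ 1 (q * a₁) + φ 1 (p * a₂) - φ 0 (p * a₁))) * t +
      (κ * (φ 1 (q * a₂) - φ 0 (q * a₁) - φ 0 (p * a₂))) * t ^ 2 +
      (-(κ * φ 0 (q * a₂))) * t ^ 3 = 0 := by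
    intro t
    have := (hper' 1 t).2
    rw [k1, k2, k3] at this
    linear_combination this
  obtain ⟨c0, c1, c2, c3⟩ := cubic_zero hcub
  -- a basis of `V`
  have hliV : LinearIndependent K ![a₁, a₂, y₀] := by
    rw [li3_iff]
    intro a b c h
    have h1 : a • (x₀ * a₁) + b • (x₀ * a₂) + (0 : K) • e = 0 := by
      have := congrArg (fun z => x₀ * z) h
      simp only [mul_add, mul_smul_comm, hxy, smul_zero, add_zero, mul_zero] at this
      rw [zero_smul, add_zero, this]
    obtain ⟨ha, hb, -⟩ := hli' _ _ _ h1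
    refine ⟨ha, hb, ?_⟩
    rw [ha, hb, zero_smul, zero_smul, zero_add, zero_add] at h
    exact (smul_eq_zero.1 h).resolve_right hy0
  obtain ⟨ψ, hψ, -⟩ := exists_coords hV ![a₁, a₂, y₀] (by
    intro i
    fin_cases i
    · exact ha₁
    · exact ha₂
    · exact hy₀) hliV
  have hliX : LinearIndependent K ![x₀, p, q] := by
    rw [li3_iff]
    intro a b c h
    have h1 : b • (x₀ * a₁) + c • (x₀ * a₂) + (0 : K) • e = 0 := by
      have := congrArg (fun z => z * y₀) h
      simp only [add_mul, smul_mul_assoc, hxy, hpy, hqy, smul_zero, zero_add, zero_mul] at this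
      rw [zero_smul, add_zero, this]
    obtain ⟨hb, hc, -⟩ := hli' _ _ _ h1
    refine ⟨?_, hb, hc⟩
    rw [hb, hc, zero_smul, zero_smul, add_zero, add_zero] at h
    refine (smul_eq_zero.1 h).resolve_right fun h0 => ?_
    rw [h0, zero_mul, map_zero] at h00
    exact zero_ne_one h00
  have hXV : ∀ i, ![x₀, p, q] i ∈ V := by
    intro i
    fin_cases i
    · exact hx₀
    · exact hp
    · exact hq
  obtain ⟨ξ, hξ, hξ'⟩ := exists_coords hV ![x₀, p, q] hXV hliX
  have hκ0 : κ ≠ 0 := by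
    intro h0
    have h1 : V ^ 2 ≤ LinearMap.ker (φ 2) := by
      rw [pow_two, Submodule.mul_le]
      intro x hx v hv
      rw [LinearMap.mem_ker]
      have e1 := smul_coords hψ hv
      have e2 := smul_coords hξ hx
      simp only [Matrix.cons_val_zero, Matrix.cons_val_one, Matrix.cons_val] at e1 e2
      have e3 := (hper x hx).1
      have e4 : φ 2 (x * a₁) = 0 := by
        rw [e2, add_mul, add_mul, smul_mul_assoc, smul_mul_assoc, smul_mul_assoc, map_add, map_add,
          map_smul, map_smul, map_smul, h20, k1, ← hκ, h0]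
        simp
      have e5 : φ 2 (x * a₂) = 0 := by
        rw [e2, add_mul, add_mul, smul_mul_assoc, smul_mul_assoc, smul_mul_assoc, map_add, map_add,
          map_smul, map_smul, map_smul, h21, k2, k3, h0]
        simp
      rw [e1, mul_add, mul_add, mul_smul_comm, mul_smul_comm, mul_smul_comm, map_add, map_add,
        map_smul, map_smul, map_smul, e3, e4, e5]
      simp
    have h2 := LinearMap.mem_ker.1 (h1 he)
    rw [h2e] at h2
    exact one_ne_zero h2
  have r1 : φ 1 (p * a₁) = 0 := (mul_eq_zero.1 c0).resolve_left hκ0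
  have r2 := (mul_eq_zero.1 c1).resolve_left hκ0
  have r3 := (mul_eq_zero.1 c2).resolve_left hκ0
  have r4 : φ 0 (q * a₂) = 0 := (mul_eq_zero.1 (neg_eq_zero.1 c3)).resolve_left hκ0
  -- the products
  have pa1 := smul_coords hφ (mul_mem_sq hp ha₁)
  have pa2 := smul_coords hφ (mul_mem_sq hp ha₂)
  have qa1 := smul_coords hφ (mul_mem_sq hq ha₁)
  have qa2 := smul_coords hφ (mul_mem_sq hq ha₂)
  simp only [Matrix.cons_val_zero, Matrix.cons_val_one, Matrix.cons_val] at pa1 pa2 qa1 qa2
  rw [r1, k1] at pa1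
  rw [k3] at pa2
  rw [← hκ] at qa1
  rw [r4, k2] at qa2
  set P11 := φ 0 (p * a₁)
  set P12 := φ 0 (p * a₂)
  set P22 := φ 1 (p * a₂)
  set Q11 := φ 0 (q * a₁)
  set Q21 := φ 1 (q * a₁)
  set Q22 := φ 1 (q * a₂)
  let Y : Fin 3 → B := ![-y₀, a₁ - P11 • y₀, a₂ - Q22 • y₀]
  have hYV : ∀ i, Y i ∈ V := by
    intro i
    fin_cases i
    · exact V.neg_mem hy₀
    · exact V.sub_mem ha₁ (V.smul_mem _ hy₀)
    · exact V.sub_mem ha₂ (V.smul_mem _ hy₀)
  have hliY : LinearIndependent K Y := by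
    show LinearIndependent K ![-y₀, a₁ - P11 • y₀, a₂ - Q22 • y₀]
    rw [li3_iff]
    intro a b c habc
    have h1 := li3_iff.1 hliV b c (-a - b * P11 - c * Q22) (by
      rw [← habc]
      module)
    obtain ⟨hb, hc, ha⟩ := h1
    refine ⟨?_, hb, hc⟩
    rw [hb, hc] at ha
    linear_combination -ha
  obtain ⟨η, hη, -⟩ := exists_coords hV Y hYV hliY
  let θ : B →ₗ[K] B := ∑ i, (ξ i).smulRight (Y i)
  have hθ : ∀ v, θ v = ξ 0 v • Y 0 + ξ 1 v • Y 1 + ξ 2 v • Y 2 := by
    intro v
    simp [θ, Fin.sum_univ_three]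
  have hθX : ∀ j, θ (![x₀, p, q] j) = Y j := by
    intro j
    rw [hθ, hξ', hξ', hξ']
    fin_cases j <;> simp
  refine h.false_of_alt ![x₀, p, q] hXV ξ hξ θ ?_ ?_ ?_
  · intro v _
    rw [hθ]
    exact V.add_mem (V.add_mem (V.smul_mem _ (hYV 0)) (V.smul_mem _ (hYV 1)))
      (V.smul_mem _ (hYV 2))
  · intro v hv
    refine ⟨∑ i, η i v • ![x₀, p, q] i, V.sum_mem fun i _ => V.smul_mem _ (hXV i), ?_⟩
    rw [map_sum]
    conv_rhs => rw [hη v hv]
    refine Finset.sum_congr rfl fun i _ => ?_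
    rw [map_smul, hθX]
  · intro x hx
    rw [hθ]
    have e2 := smul_coords hξ hx
    simp only [Matrix.cons_val_zero, Matrix.cons_val_one, Matrix.cons_val] at e2
    generalize ξ 0 x = c0 at *
    generalize ξ 1 x = c1 at *
    generalize ξ 2 x = c2 at *
    have y0 : Y 0 = -y₀ := rfl
    have y1 : Y 1 = a₁ - P11 • y₀ := rfl
    have y2 : Y 2 = a₂ - Q22 • y₀ := rfl
    rw [y0, y1, y2, e2]
    simp only [add_mul, mul_add, mul_sub, smul_mul_assoc, mul_smul_comm, mul_neg, smul_sub,
      smul_neg, hxy, hpy, hqy, pa1, pa2, qa1, qa2]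
    have r2' : P22 = P11 - Q21 := by linear_combination r2
    have r3' : Q22 = Q11 + P12 := by linear_combination r3
    rw [r2', r3']
    module

/-- Some left multiplication `V → V ^ 2` is surjective. -/
theorem Gr.false_of_sing [Infinite K] (h : Gr V lam m) (hV : finrank K V = 3)
    (hS : finrank K (V ^ 2 : Submodule K B) = 3) (hcm : V ^ 2 ≤ cm V V)
    (hsing : ∀ x ∈ V, ¬ ∀ a ∈ V ^ 2, ∃ v ∈ V, a = x * v) : False := by
  have hfin := h.fin
  have hfin2 := finite_pow hfin 2
  have hspan : ∀ w : B, ¬ V ^ 2 ≤ Submodule.span K {w} := by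
    intro w hle
    have h1 := Submodule.finrank_mono hle
    have h2 := finrank_span_singleton_le' (K := K) w
    omega
  obtain ⟨x₀, hx₀, hr⟩ : ∃ x₀ ∈ V, ¬ ∃ w : B, ∀ v ∈ V, ∃ c : K, x₀ * v = c • w := by
    by_contra hcon
    push Not at hcon
    exact h.rank_one (by omega) hspan hcon
  obtain ⟨a₁, ha₁, h1⟩ : ∃ a₁ ∈ V, x₀ * a₁ ≠ 0 := by
    by_contra hcon
    push Not at hcon
    exact hr ⟨0, fun v hv => ⟨0, by rw [hcon v hv, smul_zero]⟩⟩
  obtain ⟨a₂, ha₂, h2⟩ : ∃ a₂ ∈ V, x₀ * a₂ ∉ Submodule.span K {x₀ * a₁} := by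
    by_contra hcon
    push Not at hcon
    refine hr ⟨x₀ * a₁, fun v hv => ?_⟩
    obtain ⟨c, hc⟩ := Submodule.mem_span_singleton.1 (hcon v hv)
    exact ⟨c, hc.symm⟩
  obtain ⟨y₀, hy₀, hy0, hxy⟩ := exists_ker hV hS hx₀ (hsing x₀ hx₀)
  obtain ⟨e, he, hex⟩ : ∃ e ∈ V ^ 2, ∀ v ∈ V, e ≠ x₀ * v := by
    have := hsing x₀ hx₀
    push Not at this
    exact this
  have hpair : ∀ {f g : B}, f ≠ 0 → g ∉ Submodule.span K {f} → LinearIndependent K ![f, g] := by
    intro f g hf hg
    rw [LinearIndependent.pair_iff' hf]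
    intro a ha
    exact hg (Submodule.mem_span_singleton.2 ⟨a, ha⟩)
  have happend : ∀ {b₁ b₂ : B}, b₁ ∈ V → b₂ ∈ V → LinearIndependent K ![x₀ * b₁, x₀ * b₂] →
      LinearIndependent K ![x₀ * b₁, x₀ * b₂, e] := by
    intro b₁ b₂ hb₁ hb₂ hli
    rw [li3_iff]
    intro a b c habc
    have hc : c = 0 := by
      by_contra hc
      apply hex (-(c⁻¹ * a) • b₁ + -(c⁻¹ * b) • b₂)
        (V.add_mem (V.smul_mem _ hb₁) (V.smul_mem _ hb₂))
      have h4 : c • e = -(a • (x₀ * b₁)) - b • (x₀ * b₂) := by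
        rw [eq_sub_iff_add_eq, eq_neg_iff_add_eq_zero, ← habc]
        abel
      have h5 : e = c⁻¹ • (c • e) := by rw [smul_smul, inv_mul_cancel₀ hc, one_smul]
      rw [h5, h4, mul_add, mul_smul_comm, mul_smul_comm]
      module
    rw [hc, zero_smul, add_zero] at habc
    have h4 := LinearIndependent.pair_iff.1 hli a b habc
    exact ⟨h4.1, h4.2, hc⟩
  have hli2 := hpair h1 h2
  have hli := happend ha₁ ha₂ hli2
  -- first order
  have hfirst : ∀ x ∈ V, ∃ v ∈ V, x * y₀ = x₀ * v := by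
    obtain ⟨φ, hφ, hφ'⟩ := exists_coords hS ![x₀ * a₁, x₀ * a₂, e] (by
      intro i
      fin_cases i
      · exact mul_mem_sq hx₀ ha₁
      · exact mul_mem_sq hx₀ ha₂
      · exact he) hli
    intro x hx
    have h3 := (perturb hV hS hsing hx₀ ha₁ ha₂ hy₀ hy0 hxy hli hφ' hx).1
    have h4 := smul_coords hφ (mul_mem_sq hx hy₀)
    simp only [Matrix.cons_val_zero, Matrix.cons_val_one, Matrix.cons_val] at h4
    rw [h3, zero_smul, add_zero] at h4
    refine ⟨φ 0 (x * y₀) • a₁ + φ 1 (x * y₀) • a₂,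
      V.add_mem (V.smul_mem _ ha₁) (V.smul_mem _ ha₂), ?_⟩
    rw [mul_add, mul_smul_comm, mul_smul_comm]
    exact h4
  by_cases hB : ∃ p ∈ V, ∃ q ∈ V, LinearIndependent K ![p * y₀, q * y₀]
  · obtain ⟨p, hp, q, hq, hpq⟩ := hB
    obtain ⟨b₁, hb₁, e1⟩ := hfirst p hp
    obtain ⟨b₂, hb₂, e2⟩ := hfirst q hq
    rw [e1, e2] at hpq
    exact h.false_of_B hV hS hsing hx₀ hb₁ hb₂ hy₀ hy0 hxy he (happend hb₁ hb₂ hpq) hp hq e1 e2
  · push Not at hB
    obtain ⟨p, hp, hpy⟩ : ∃ p ∈ V, p * y₀ ≠ 0 := by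
      by_contra hcon
      push Not at hcon
      exact hy0 (h.eq_zero_left' hy₀ hcon)
    obtain ⟨b₁, hb₁, e1⟩ := hfirst p hp
    have hyw : ∀ x ∈ V, ∃ c : K, x * y₀ = c • (x₀ * b₁) := by
      intro x hx
      by_contra hcon
      push Not at hcon
      apply hB p hp x hx
      rw [e1] at hpy ⊢
      apply hpair hpy
      intro h3
      obtain ⟨c, hc⟩ := Submodule.mem_span_singleton.1 h3
      exact hcon c hc.symm
    rw [e1] at hpy
    obtain ⟨b₂, hb₂, h3⟩ : ∃ b₂ ∈ V, x₀ * b₂ ∉ Submodule.span K {x₀ * b₁} := by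
      by_contra hcon
      push Not at hcon
      refine hr ⟨x₀ * b₁, fun v hv => ?_⟩
      obtain ⟨c, hc⟩ := Submodule.mem_span_singleton.1 (hcon v hv)
      exact ⟨c, hc.symm⟩
    exact h.false_of_A hV hS hcm hsing hx₀ hb₁ hb₂ hy₀ hy0 hxy he
      (happend hb₁ hb₂ (hpair hpy h3)) rfl hyw

end Cfsg.Agent.H591.Five
end

-- part: H591/Five/Chars
section
/-!
# Three-dimensional algebras with an automorphism

`Gr.false_of_P`: in a graded symmetric algebra generated in degree one by a three-dimensional space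
`V`, with `V ^ 2 = [V, V]` and `V ^ 3 = [V, V ^ 2]`, no left multiplication `V → V ^ 2` is surjective.
-/

set_option autoImplicit false

namespace Cfsg.Agent.H591.Five

open Module

section chars

variable {K U : Type*} [Field K] [AddCommGroup U] [Module K U]

/-- Dedekind independence for functionals which are simultaneously multiplicative. -/
theorem dedekind {n : ℕ} (F : Fin n → (U →ₗ[K] K)) (hinj : Function.Injective F)
    (hmul : ∀ a b, ∃ c, ∀ i, F i c = F i a * F i b) (hone : ∃ e, ∀ i, F i e = 1) :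
    LinearIndependent K F := by
  rw [Fintype.linearIndependent_iff]
  intro g hg
  let Fh : Fin n → (FreeMonoid U →* K) := fun i => FreeMonoid.lift (F i)
  have hFh : Function.Injective Fh := by
    intro i j hij
    apply hinj
    ext a
    have := congrArg (fun φ : FreeMonoid U →* K => φ (FreeMonoid.of a)) hij
    simpa [Fh] using this
  have hw : ∀ w : FreeMonoid U, ∃ c, ∀ i, Fh i w = F i c := by
    intro w
    induction w using FreeMonoid.inductionOn' with
    | one =>
      obtain ⟨e, he⟩ := hone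
      exact ⟨e, fun i => by rw [map_one, he]⟩
    | of_mul a w ih =>
      obtain ⟨c, hc⟩ := ih
      obtain ⟨d, hd⟩ := hmul a c
      refine ⟨d, fun i => ?_⟩
      rw [map_mul, hc, hd]
      simp [Fh]
  have hli := (linearIndependent_monoidHom (FreeMonoid U) K).comp Fh hFh
  rw [Fintype.linearIndependent_iff] at hli
  apply hli g
  funext w
  obtain ⟨c, hc⟩ := hw w
  have h1 := congrArg (fun φ : U →ₗ[K] K => φ c) hg
  simp only [LinearMap.sum_apply, LinearMap.smul_apply, LinearMap.zero_apply] at h1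
  simp only [Finset.sum_apply, Pi.smul_apply, Function.comp_apply, Pi.zero_apply]
  rw [← h1]
  refine Finset.sum_congr rfl fun i _ => ?_
  rw [← hc i]

variable {M : U →ₗ[K] U →ₗ[K] U} {e : U}

/-- The existence of a character. -/
theorem exists_char [IsAlgClosed K] [FiniteDimensional K U] (hU : finrank K U = 3)
    (he : ∀ v, M e v = v) (hτ : ∀ a, ∃ u, M u e = a)
    (hI : ∀ u v w, M (M u e) (M v w) = M (M u v) w) :
    ∃ f : U →ₗ[K] K, f e = 1 ∧ ∀ u v, f (M u v) = f (M u e) * f v := by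
  have hnt : Nontrivial U := Module.nontrivial_of_finrank_pos (R := K) (by omega)
  -- an element outside `K e`
  obtain ⟨u, hu⟩ : ∃ u : U, u ∉ Submodule.span K {e} := by
    by_contra hcon
    push Not at hcon
    have h1 : (⊤ : Submodule K U) ≤ Submodule.span K {e} := fun u _ => hcon u
    have h2 := Submodule.finrank_mono h1
    rw [finrank_top, hU] at h2
    have h3 : finrank K (Submodule.span K ({e} : Set U)) ≤ 1 := by
      by_cases h : e = 0
      · rw [h, Submodule.span_zero_singleton, finrank_bot]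
        exact Nat.zero_le _
      · rw [finrank_span_singleton h]
    omega
  obtain ⟨c, hc⟩ := Module.End.exists_eigenvalue (M u)
  obtain ⟨v, hv⟩ := hc.exists_hasEigenvector
  have hv0 := hv.2
  have hMv : M u v = c • v := Module.End.mem_eigenspace_iff.1 hv.1
  set u' := u - c • e with hu'
  have hu'0 : u' ≠ 0 := by
    intro h
    apply hu
    rw [Submodule.mem_span_singleton]
    exact ⟨c, (sub_eq_zero.1 h).symm⟩
  have hu'v : M u' v = 0 := by
    rw [hu', map_sub, LinearMap.sub_apply, map_smul, LinearMap.smul_apply, he, hMv, sub_self]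
  set P : Submodule K U := LinearMap.range (M.flip v) with hP
  have hvP : v ∈ P := ⟨e, by rw [LinearMap.flip_apply, he]⟩
  have hPle : finrank K P ≤ 2 := by
    have h1 := LinearMap.finrank_range_add_finrank_ker (M.flip v)
    rw [← hP] at h1
    have h2 : 0 < finrank K (LinearMap.ker (M.flip v)) := by
      rw [Module.finrank_pos_iff, Submodule.nontrivial_iff_ne_bot]
      intro h
      apply hu'0
      have : u' ∈ LinearMap.ker (M.flip v) := by
        rw [LinearMap.mem_ker, LinearMap.flip_apply, hu'v]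
      rwa [h, Submodule.mem_bot] at this
    omega
  have hPid : ∀ a, ∀ q ∈ P, M a q ∈ P := by
    rintro a _ ⟨w, rfl⟩
    obtain ⟨a', rfl⟩ := hτ a
    rw [LinearMap.flip_apply, hI]
    exact ⟨M a' w, by rw [LinearMap.flip_apply]⟩
  by_cases hP1 : finrank K P ≤ 1
  · -- `P = K v`
    have h1 : Submodule.span K {v} = P := by
      apply Submodule.eq_of_le_of_finrank_le
      · rw [Submodule.span_singleton_le_iff_mem]
        exact hvP
      · rw [finrank_span_singleton hv0]
        exact hP1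
    -- a functional dual to `v`
    obtain ⟨g, hg⟩ : ∃ g : U →ₗ[K] K, g v = 1 := by
      by_contra hcon
      push Not at hcon
      apply hv0
      rw [← Module.forall_dual_apply_eq_zero_iff K]
      intro φ
      by_contra h0
      apply hcon ((φ v)⁻¹ • φ)
      rw [LinearMap.smul_apply, smul_eq_mul, inv_mul_cancel₀ h0]
    have hχ : ∀ w, M w v = g (M w v) • v := by
      intro w
      have h2 : M w v ∈ P := ⟨w, by rw [LinearMap.flip_apply]⟩
      rw [← h1] at h2
      obtain ⟨d, hd⟩ := Submodule.mem_span_singleton.1 h2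
      rw [← hd, map_smul, hg, smul_eq_mul, mul_one]
    refine ⟨g ∘ₗ M.flip v, ?_, ?_⟩
    · rw [LinearMap.comp_apply, LinearMap.flip_apply, he, hg]
    · intro a b
      show g (M (M a b) v) = g (M (M a e) v) * g (M b v)
      have h2 : M (M a b) v = g (M b v) • M (M a e) v := by
        conv_lhs => rw [← hI, hχ b, map_smul]
      rw [h2, map_smul, smul_eq_mul, mul_comm]
  · -- `P` is a hyperplane
    have heP : e ∉ P := by
      intro h
      have h1 : P = ⊤ := by
        rw [eq_top_iff]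
        intro a _
        obtain ⟨a', rfl⟩ := hτ a
        exact hPid a' e h
      rw [h1, finrank_top] at hPle
      omega
    obtain ⟨f, hf0, hf⟩ := Submodule.exists_le_ker_of_lt_top P
      (lt_top_iff_ne_top.2 fun h => by rw [h, finrank_top] at hPle; omega)
    have hker : P = LinearMap.ker f := by
      apply Submodule.eq_of_le_of_finrank_le hf
      have h1 := LinearMap.finrank_range_add_finrank_ker f
      have h2 : 0 < finrank K (LinearMap.range f) := by
        rw [Module.finrank_pos_iff, Submodule.nontrivial_iff_ne_bot, Ne, LinearMap.range_eq_bot]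
        exact hf0
      omega
    have hfe : f e ≠ 0 := fun h => heP (by rw [hker, LinearMap.mem_ker]; exact h)
    refine ⟨(f e)⁻¹ • f, ?_, ?_⟩
    · rw [LinearMap.smul_apply, smul_eq_mul, inv_mul_cancel₀ hfe]
    · intro a b
      simp only [LinearMap.smul_apply, smul_eq_mul]
      have h1 : b - ((f e)⁻¹ * f b) • e ∈ P := by
        rw [hker, LinearMap.mem_ker, map_sub, map_smul, smul_eq_mul]
        field_simp
        ring
      have h2 := hPid a _ h1
      rw [hker, LinearMap.mem_ker, map_sub, map_sub, map_smul, map_smul, smul_eq_mul,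
        sub_eq_zero] at h2
      rw [h2]
      ring

/-- The existence of a twisted trace. -/
theorem exists_trace [IsAlgClosed K] [FiniteDimensional K U] (hU : finrank K U = 3)
    (he : ∀ v, M e v = v) (hτ : ∀ a, ∃ u, M u e = a)
    (hI : ∀ u v w, M (M u e) (M v w) = M (M u v) w) :
    ∃ g : U →ₗ[K] K, g ≠ 0 ∧ ((∀ u v, g (M u v) = g (M v u)) ∨
      ∀ u v, g (M (M u e) v) = g (M v u)) := by
  obtain ⟨f, hf1, hf⟩ := exists_char hU he hτ hI
  set τ : U →ₗ[K] U := M.flip e with hτd
  have hτa : ∀ u, M u e = τ u := fun u => by rw [hτd, LinearMap.flip_apply]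
  have hτe : τ e = e := by rw [← hτa, he]
  have hτM : ∀ u v, τ (M u v) = M (τ u) (τ v) := by
    intro u v
    rw [← hτa, ← hτa, ← hτa, hI]
  simp only [hτa] at hf hτ hI ⊢
  have hsurj : Function.Surjective τ := hτ
  -- the functionals `f ∘ τ ^ i`
  have hchar : ∀ i : ℕ, ∀ u v, f ((τ ^ i) (M u v)) = f ((τ ^ (i + 1)) u) * f ((τ ^ i) v) := by
    have hpow : ∀ i : ℕ, ∀ u v, (τ ^ i) (M u v) = M ((τ ^ i) u) ((τ ^ i) v) := by
      intro i
      induction i with
      | zero => intro u v; simp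
      | succ i ih =>
        intro u v
        rw [pow_succ', Module.End.mul_apply, ih, hτM, Module.End.mul_apply, Module.End.mul_apply]
    intro i u v
    rw [hpow, hf, pow_succ', Module.End.mul_apply]
  have hone : ∀ i : ℕ, f ((τ ^ i) e) = 1 := by
    intro i
    have : (τ ^ i) e = e := by
      induction i with
      | zero => simp
      | succ i ih => rw [pow_succ', Module.End.mul_apply, ih, hτe]
    rw [this, hf1]
  have hmul : ∀ a b, ∃ c, ∀ i : ℕ, f ((τ ^ i) c) = f ((τ ^ i) a) * f ((τ ^ i) b) := by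
    intro a b
    obtain ⟨a', rfl⟩ := hτ a
    refine ⟨M a' b, fun i => ?_⟩
    rw [hchar, pow_succ, Module.End.mul_apply]
  have hded : ∀ {n : ℕ} (k : Fin n → ℕ), (Function.Injective fun i => f ∘ₗ (τ ^ (k i))) →
      LinearIndependent K fun i => f ∘ₗ (τ ^ (k i)) := by
    intro n k hk
    refine dedekind _ hk (fun a b => ?_) ⟨e, fun i => hone _⟩
    obtain ⟨c, hc⟩ := hmul a b
    exact ⟨c, fun i => hc _⟩
  by_cases h1 : ∀ u, f (τ u) = f u
  · refine ⟨f, ?_, Or.inl fun u v => ?_⟩
    · rintro rfl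
      rw [LinearMap.zero_apply] at hf1
      exact zero_ne_one hf1
    · rw [hf, hf, h1, h1, mul_comm]
  by_cases h2 : ∀ u, f (τ (τ u)) = f u
  · refine ⟨f + f ∘ₗ τ, ?_, Or.inl fun u v => ?_⟩
    · intro h0
      apply h1
      intro u
      have k1 : ∀ u, f u + f (τ u) = 0 := fun u => by
        have := congrArg (fun φ : U →ₗ[K] K => φ u) h0
        simpa using this
      have k2 := k1 e
      rw [hτe, hf1] at k2
      have k3 := k1 u
      have k4 : f (τ u) = f u + (1 + 1) * (- f u) + (f u + f (τ u)) := by ring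
      rw [k4, k2, k3]
      ring
    · simp only [LinearMap.add_apply, LinearMap.comp_apply, hτM, hf, h2]
      ring
  have h3 : ∀ u, f (τ (τ (τ u))) = f u := by
    by_contra h3
    push Not at h1 h2 h3
    obtain ⟨u1, hu1⟩ := h1
    obtain ⟨u2, hu2⟩ := h2
    obtain ⟨u3, hu3⟩ := h3
    have hli := hded (n := 4) (fun i => (i : ℕ)) (by
      -- distinctness
      have key : ∀ i j : ℕ, i < j → j ≤ 3 → f ∘ₗ (τ ^ i) ≠ f ∘ₗ (τ ^ j) := by
        intro i j hij hj heq
        obtain ⟨k, rfl⟩ := Nat.exists_eq_add_of_lt hij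
        have h4 : ∀ u, f u = f ((τ ^ (k + 1)) u) := by
          have hpsurj : Function.Surjective (τ ^ i : Module.End K U) := by
            clear heq hj hij
            induction i with
            | zero => exact fun u => ⟨u, by simp⟩
            | succ i ih =>
              intro u
              obtain ⟨v, rfl⟩ := hsurj u
              obtain ⟨w, rfl⟩ := ih v
              exact ⟨w, by rw [pow_succ', Module.End.mul_apply]⟩
          intro u
          obtain ⟨v, rfl⟩ := hpsurj u
          have h5 := congrArg (fun φ : U →ₗ[K] K => φ v) heq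
          simp only [LinearMap.comp_apply] at h5
          rw [h5, ← Module.End.mul_apply, ← pow_add]
          congr 3
          omega
        have hk : k = 0 ∨ k = 1 ∨ k = 2 := by omega
        rcases hk with rfl | rfl | rfl
        · apply hu1
          have := h4 u1
          rw [zero_add, pow_one] at this
          exact this.symm
        · apply hu2
          have := h4 u2
          rw [show (1 + 1 : ℕ) = 2 from rfl, pow_two, Module.End.mul_apply] at this
          exact this.symm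
        · apply hu3
          have := h4 u3
          rw [show (2 + 1 : ℕ) = 3 from rfl, pow_succ, pow_two, Module.End.mul_apply,
            Module.End.mul_apply] at this
          exact this.symm
      intro i j hij
      by_contra hne
      rcases lt_or_gt_of_ne (fun h => hne (Fin.ext h) : (i : ℕ) ≠ (j : ℕ)) with h | h
      · exact key i j h (by omega) hij
      · exact key j i h (by omega) hij.symm)
    have h5 := hli.fintype_card_le_finrank
    rw [Fintype.card_fin, Subspace.dual_finrank_eq, hU] at h5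
    omega
  refine ⟨f + f ∘ₗ τ + f ∘ₗ (τ ∘ₗ τ), ?_, Or.inr fun u v => ?_⟩
  · intro h0
    push Not at h1 h2
    obtain ⟨u1, hu1⟩ := h1
    obtain ⟨u2, hu2⟩ := h2
    have hli := hded (n := 3) (fun i => (i : ℕ)) (by
      intro i j hij
      by_contra hne
      have g0 : ∀ (k l : ℕ) (hk : k < 3) (hl : l < 3), f ∘ₗ (τ ^ k) = f ∘ₗ (τ ^ l) → k < l →
          False := by
        intro k l hk hl h5 hkl
        have h6 : ∀ u, f ((τ ^ k) u) = f ((τ ^ l) u) := fun u =>
          congrArg (fun φ : U →ₗ[K] K => φ u) h5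
        have h7 : (k = 0 ∧ l = 1) ∨ (k = 0 ∧ l = 2) ∨ (k = 1 ∧ l = 2) := by omega
        rcases h7 with ⟨rfl, rfl⟩ | ⟨rfl, rfl⟩ | ⟨rfl, rfl⟩
        · apply hu1
          have := h6 u1
          simpa using this.symm
        · apply hu2
          have := h6 u2
          rw [pow_two, Module.End.mul_apply, pow_zero, Module.End.one_apply] at this
          exact this.symm
        · apply hu1
          obtain ⟨v, rfl⟩ := hsurj u1
          have := h6 v
          rw [pow_two, Module.End.mul_apply, pow_one] at this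
          exact this.symm
      rcases lt_or_gt_of_ne (fun h => hne (Fin.ext h) : (i : ℕ) ≠ (j : ℕ)) with h | h
      · exact g0 i j i.2 j.2 hij h
      · exact g0 j i j.2 i.2 hij.symm h)
    rw [Fintype.linearIndependent_iff] at hli
    have h5 := hli (fun _ => 1) (by
      rw [Fin.sum_univ_three, ← h0]
      ext u
      simp [pow_two, Module.End.mul_apply]) 0
    exact one_ne_zero h5
  · simp only [LinearMap.add_apply, LinearMap.comp_apply, hτM, hf, h3]
    ring

end chars

section graded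

variable {K B : Type*} [Field K] [Ring B] [Algebra K B]
variable {V : Submodule K B} {lam : B →ₗ[K] K} {m : ℕ}

theorem Gr.false_of_P [IsAlgClosed K] (h : Gr V lam m) (hV : finrank K V = 3) {x : B}
    (hx : x ∈ V) (hP : ∀ a ∈ V ^ 2, ∃ v ∈ V, a = x * v) (hcm2 : V ^ 2 ≤ cm V V)
    (hcm3 : V ^ 3 ≤ cm V (V ^ 2)) : False := by
  have hfin := h.fin
  have h4 := h.four
  have hinj : ∀ v ∈ V, x * v = 0 → v = 0 := fun v hv h0 =>
    h.inj_of_P' hP hx (n := 1) (by omega) hv (by rwa [pow_one])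
  have hinj2 : ∀ v ∈ V, x * (x * v) = 0 → v = 0 := fun v hv h0 =>
    h.inj_of_P' hP hx (n := 2) (by omega) hv (by rwa [pow_two, mul_assoc])
  -- the equivalence `V ≃ V ^ 2`
  let g : V →ₗ[K] (V ^ 2 : Submodule K B) :=
    ((LinearMap.mulLeft K x) ∘ₗ V.subtype).codRestrict (V ^ 2) fun v => mul_mem_sq hx v.2
  have hg : Function.Bijective g := by
    constructor
    · rw [← LinearMap.ker_eq_bot, LinearMap.ker_eq_bot']
      intro v hv
      exact Subtype.ext (hinj v v.2 (congrArg Subtype.val hv))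
    · rintro ⟨a, ha⟩
      obtain ⟨v, hv, rfl⟩ := hP a ha
      exact ⟨⟨v, hv⟩, rfl⟩
  let E := LinearEquiv.ofBijective g hg
  have hE : ∀ ξ : (V ^ 2 : Submodule K B), x * (E.symm ξ : B) = ξ := by
    intro ξ
    exact congrArg Subtype.val (E.apply_symm_apply ξ)
  let M : V →ₗ[K] V →ₗ[K] V := LinearMap.mk₂ K
    (fun u v => E.symm ⟨(u : B) * v, mul_mem_sq u.2 v.2⟩)
    (by
      intro u u' v
      rw [← map_add]
      congr 1
      exact Subtype.ext (add_mul _ _ _))
    (by
      intro c u v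
      rw [← map_smul]
      congr 1
      exact Subtype.ext (smul_mul_assoc _ _ _))
    (by
      intro u v v'
      rw [← map_add]
      congr 1
      exact Subtype.ext (mul_add _ _ _))
    (by
      intro c u v
      rw [← map_smul]
      congr 1
      exact Subtype.ext (mul_smul_comm _ _ _))
  have hM : ∀ u v : V, x * (M u v : B) = u * v := fun u v => hE _
  let e : V := ⟨x, hx⟩
  have hτ : ∀ u : V, x * (M u e : B) = u * x := fun u => hM u e
  have he : ∀ v, M e v = v := by
    intro v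
    apply Subtype.ext
    rw [← sub_eq_zero]
    apply hinj _ (V.sub_mem (M e v).2 v.2)
    rw [mul_sub, hM, sub_self]
  have hsurj : ∀ a, ∃ u, M u e = a := by
    have h1 : Function.Injective (M.flip e) := by
      rw [← LinearMap.ker_eq_bot, LinearMap.ker_eq_bot']
      intro u hu
      apply Subtype.ext
      apply h.right_inj_of_P hP hx u.2
      rw [← hτ]
      rw [LinearMap.flip_apply] at hu
      rw [hu]
      simp
    exact LinearMap.injective_iff_surjective.1 h1
  have hI : ∀ u v w, M (M u e) (M v w) = M (M u v) w := by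
    intro u v w
    apply Subtype.ext
    rw [← sub_eq_zero]
    apply hinj2 _ (V.sub_mem (M _ _).2 (M _ _).2)
    rw [mul_sub, mul_sub, hM, hM, ← mul_assoc x, hτ, ← mul_assoc x, hM, mul_assoc, hM, mul_assoc,
      sub_self]
  obtain ⟨φ, hφ0, hφ⟩ := exists_trace hV he hsurj hI
  rcases hφ with hφ | hφ
  · -- degree two
    apply hφ0
    ext v
    rw [LinearMap.zero_apply]
    let W : Submodule K B := ((LinearMap.ker φ).map V.subtype).map (LinearMap.mulLeft K x)
    have h1 : cm V V ≤ W := by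
      rw [cm, Submodule.span_le]
      rintro _ ⟨a, ha, b, hb, rfl⟩
      refine ⟨_, ⟨M ⟨a, ha⟩ ⟨b, hb⟩ - M ⟨b, hb⟩ ⟨a, ha⟩, ?_, rfl⟩, ?_⟩
      · rw [SetLike.mem_coe, LinearMap.mem_ker, map_sub, hφ, sub_self]
      · show x * ((M ⟨a, ha⟩ ⟨b, hb⟩ - M ⟨b, hb⟩ ⟨a, ha⟩ : V) : B) = a * b - b * a
        rw [AddSubgroupClass.coe_sub, mul_sub, hM, hM]
    obtain ⟨_, ⟨k, hk, rfl⟩, hk2⟩ := h1 (hcm2 (mul_mem_sq hx v.2))
    have h2 : v = k := by
      apply Subtype.ext
      rw [← sub_eq_zero]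
      apply hinj _ (V.sub_mem v.2 k.2)
      rw [mul_sub, sub_eq_zero]
      exact hk2.symm
    rw [h2]
    exact hk
  · -- degree three
    apply hφ0
    ext v
    rw [LinearMap.zero_apply]
    let W : Submodule K B := (((LinearMap.ker φ).map V.subtype).map (LinearMap.mulLeft K x)).map
      (LinearMap.mulLeft K x)
    have h1 : cm V (V ^ 2) ≤ W := by
      rw [cm, Submodule.span_le]
      rintro _ ⟨a, ha, b, hb, rfl⟩
      obtain ⟨c, hc, rfl⟩ := hP b hb
      refine ⟨_, ⟨_, ⟨M (M ⟨a, ha⟩ e) ⟨c, hc⟩ - M ⟨c, hc⟩ ⟨a, ha⟩, ?_, rfl⟩, rfl⟩, ?_⟩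
      · rw [SetLike.mem_coe, LinearMap.mem_ker, map_sub, hφ, sub_self]
      · show x * (x * ((M (M ⟨a, ha⟩ e) ⟨c, hc⟩ - M ⟨c, hc⟩ ⟨a, ha⟩ : V) : B)) =
          a * (x * c) - x * c * a
        rw [AddSubgroupClass.coe_sub, mul_sub, hM, hM, mul_sub, ← mul_assoc x, hτ, mul_assoc,
          mul_assoc]
    have hv3 : x * (x * v) ∈ V ^ 3 := by
      rw [pow_succ']
      exact Submodule.mul_mem_mul hx (mul_mem_sq hx v.2)
    obtain ⟨_, ⟨_, ⟨k, hk, rfl⟩, rfl⟩, hk2⟩ := h1 (hcm3 hv3)
    have h2 : v = k := by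
      apply Subtype.ext
      rw [← sub_eq_zero]
      apply hinj2 _ (V.sub_mem v.2 k.2)
      rw [mul_sub, mul_sub, sub_eq_zero]
      exact hk2.symm
    rw [h2]
    exact hk

end graded

end Cfsg.Agent.H591.Five
end

-- part: H591/Five/GrMain
section
/-!
# Graded symmetric algebras generated by at most three elements with few non-commutators

`Gr.false`: there is no graded symmetric algebra of top degree at least four, generated by a space
`V` of dimension at most three with `V ^ 2 = [V, V]` and, if `dim V ^ 2 = 3`, `V ^ 3 = [V, V ^ 2]`.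
-/

set_option autoImplicit false

namespace Cfsg.Agent.H591.Five

open Module

variable {K B : Type*} [Field K] [Ring B] [Algebra K B]
variable {V : Submodule K B} {lam : B →ₗ[K] K} {m : ℕ}

theorem coords_of_basis {n : ℕ} (b : Basis (Fin n) K V) {x : B} (hx : x ∈ V) :
    x = ∑ i, b.repr ⟨x, hx⟩ i • (b i : B) := by
  calc x = ((∑ i, b.repr ⟨x, hx⟩ i • b i : V) : B) := by rw [b.sum_repr]
    _ = ∑ i, ((b.repr ⟨x, hx⟩ i • b i : V) : B) := AddSubmonoidClass.coe_finsetSum _ _
    _ = _ := rfl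

theorem finrank_cm_three [FiniteDimensional K V] (hV : finrank K V = 3) :
    finrank K (cm V V) ≤ 3 := by
  classical
  let b := Module.finBasisOfFinrankEq K V hV
  have h1 : cm V V ≤ Submodule.span K ({(b 0 * b 1 - b 1 * b 0 : B), (b 0 * b 2 - b 2 * b 0 : B),
      (b 1 * b 2 - b 2 * b 1 : B)} : Finset B) := by
    rw [cm, Submodule.span_le]
    rintro _ ⟨x, hx, y, hy, rfl⟩
    have ex := coords_of_basis b hx
    have ey := coords_of_basis b hy
    rw [Fin.sum_univ_three] at ex ey
    generalize b.repr ⟨x, hx⟩ 0 = x0 at *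
    generalize b.repr ⟨x, hx⟩ 1 = x1 at *
    generalize b.repr ⟨x, hx⟩ 2 = x2 at *
    generalize b.repr ⟨y, hy⟩ 0 = y0 at *
    generalize b.repr ⟨y, hy⟩ 1 = y1 at *
    generalize b.repr ⟨y, hy⟩ 2 = y2 at *
    have key : x * y - y * x = (x0 * y1 - x1 * y0) • (b 0 * b 1 - b 1 * b 0 : B) +
        (x0 * y2 - x2 * y0) • (b 0 * b 2 - b 2 * b 0 : B) +
        (x1 * y2 - x2 * y1) • (b 1 * b 2 - b 2 * b 1 : B) := by
      rw [ex, ey]
      simp only [add_mul, mul_add, smul_mul_assoc, mul_smul_comm, smul_sub]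
      module
    rw [key]
    refine Submodule.add_mem _ (Submodule.add_mem _ (Submodule.smul_mem _ _
      (Submodule.subset_span (by simp))) (Submodule.smul_mem _ _
      (Submodule.subset_span (by simp)))) (Submodule.smul_mem _ _
      (Submodule.subset_span (by simp)))
  have hfs : FiniteDimensional K (Submodule.span K (({(b 0 * b 1 - b 1 * b 0 : B),
      (b 0 * b 2 - b 2 * b 0 : B), (b 1 * b 2 - b 2 * b 1 : B)} : Finset B) : Set B)) :=
    FiniteDimensional.span_finset K _
  exact ((Submodule.finrank_mono h1).trans (finrank_span_finset_le_card _)).trans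
    Finset.card_le_three

theorem cm_le_sq : cm V V ≤ V ^ 2 := by
  rw [cm, Submodule.span_le]
  rintro _ ⟨x, hx, y, hy, rfl⟩
  exact (V ^ 2).sub_mem (mul_mem_sq hx hy) (mul_mem_sq hy hx)

instance [FiniteDimensional K V] : FiniteDimensional K (cm V V) :=
  have : FiniteDimensional K (V ^ 2 : Submodule K B) := finite_pow inferInstance 2
  Submodule.finiteDimensional_of_le cm_le_sq

theorem finrank_cm_two [FiniteDimensional K V] (hV : finrank K V = 2) :
    ∃ w, cm V V ≤ Submodule.span K {w} := by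
  let b := Module.finBasisOfFinrankEq K V hV
  refine ⟨(b 0 * b 1 - b 1 * b 0 : B), ?_⟩
  rw [cm, Submodule.span_le]
  rintro _ ⟨x, hx, y, hy, rfl⟩
  have ex := coords_of_basis b hx
  have ey := coords_of_basis b hy
  rw [Fin.sum_univ_two] at ex ey
  generalize b.repr ⟨x, hx⟩ 0 = x0 at *
  generalize b.repr ⟨x, hx⟩ 1 = x1 at *
  generalize b.repr ⟨y, hy⟩ 0 = y0 at *
  generalize b.repr ⟨y, hy⟩ 1 = y1 at *
  rw [SetLike.mem_coe, Submodule.mem_span_singleton]
  refine ⟨x0 * y1 - x1 * y0, ?_⟩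
  rw [ex, ey]
  simp only [add_mul, mul_add, smul_mul_assoc, mul_smul_comm, smul_sub]
  module

theorem cm_eq_bot_of_le_one [FiniteDimensional K V] (hV : finrank K V ≤ 1) : cm V V = ⊥ := by
  rw [eq_bot_iff, cm, Submodule.span_le]
  rintro _ ⟨x, hx, y, hy, rfl⟩
  obtain ⟨v, hv⟩ := finrank_le_one_iff.1 hV
  obtain ⟨c, hc⟩ := hv ⟨x, hx⟩
  obtain ⟨d, hd⟩ := hv ⟨y, hy⟩
  have hc' : c • (v : B) = x := congrArg Subtype.val hc
  have hd' : d • (v : B) = y := congrArg Subtype.val hd
  rw [SetLike.mem_coe, Submodule.mem_bot, ← hc', ← hd', smul_mul_smul_comm, smul_mul_smul_comm,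
    mul_comm, sub_self]

theorem Gr.false [IsAlgClosed K] (h : Gr V lam m) (hV3 : finrank K V ≤ 3) (hcm2 : V ^ 2 ≤ cm V V)
    (hcm3 : finrank K (V ^ 2 : Submodule K B) = 3 → V ^ 3 ≤ cm V (V ^ 2)) : False := by
  have hfin := h.fin
  have hfin2 := finite_pow hfin 2
  have hinf : Infinite K := IsAlgClosed.instInfinite
  have hpos : V ^ 2 ≠ ⊥ := h.sq_ne_bot
  have hV2 : 2 ≤ finrank K V := by
    by_contra hlt
    have h1 := cm_eq_bot_of_le_one (V := V) (by omega)
    rw [h1, le_bot_iff] at hcm2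
    exact hpos hcm2
  -- if `V ^ 2` is at most one-dimensional then some left multiplication is surjective
  have hone : ∀ w, V ^ 2 ≤ Submodule.span K {w} → ∃ x ∈ V, ∀ a ∈ V ^ 2, ∃ v ∈ V, a = x * v := by
    intro w hw
    obtain ⟨x, hx, v, hv, hxv⟩ := exists_mul_notMem (V := V) (W := ⊥)
      (fun h => hpos (le_bot_iff.1 h))
    rw [Submodule.mem_bot] at hxv
    obtain ⟨c, hc⟩ := Submodule.mem_span_singleton.1 (hw (mul_mem_sq hx hv))
    have hc0 : c ≠ 0 := fun h => hxv (by rw [← hc, h, zero_smul])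
    refine ⟨x, hx, fun a ha => ?_⟩
    obtain ⟨d, hd⟩ := Submodule.mem_span_singleton.1 (hw ha)
    refine ⟨(d * c⁻¹) • v, V.smul_mem _ hv, ?_⟩
    rw [mul_smul_comm, ← hc, ← hd, smul_smul, mul_assoc, inv_mul_cancel₀ hc0, mul_one]
  by_cases hP : ∃ x ∈ V, ∀ a ∈ V ^ 2, ∃ v ∈ V, a = x * v
  · obtain ⟨x, hx, hP⟩ := hP
    have h1 := h.finrank_sq_ge hP hx
    by_cases hV : finrank K V = 2
    · obtain ⟨w, hw⟩ := finrank_cm_two hV
      have h2 := Submodule.finrank_mono (hcm2.trans hw)
      have h3 := finrank_span_singleton_le' (K := K) w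
      omega
    · have hV' : finrank K V = 3 := by omega
      have h2 := (Submodule.finrank_mono hcm2).trans (finrank_cm_three hV')
      exact h.false_of_P hV' hx hP hcm2 (hcm3 (by omega))
  · push Not at hP
    have hspan : ∀ w, ¬ V ^ 2 ≤ Submodule.span K {w} := by
      intro w hw
      obtain ⟨x, hx, h1⟩ := hone w hw
      obtain ⟨a, ha, h2⟩ := hP x hx
      obtain ⟨v, hv, h3⟩ := h1 a ha
      exact h2 v hv h3
    have hV3' : finrank K V = 3 := by
      by_contra hV
      obtain ⟨w, hw⟩ := finrank_cm_two (V := V) (by omega)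
      exact hspan w (hcm2.trans hw)
    have h2 := (Submodule.finrank_mono hcm2).trans (finrank_cm_three hV3')
    have hsing : ∀ x ∈ V, ¬ ∀ a ∈ V ^ 2, ∃ v ∈ V, a = x * v := by
      intro x hx h1
      obtain ⟨a, ha, h2⟩ := hP x hx
      obtain ⟨v, hv, h3⟩ := h1 a ha
      exact h2 v hv h3
    by_cases hS : finrank K (V ^ 2 : Submodule K B) = 3
    · exact h.false_of_sing hV3' hS hcm2 hsing
    · refine h.rank_one hV2 hspan fun x hx => ?_
      -- the image of the left multiplication by `x`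
      let W : Submodule K B := V.map (LinearMap.mulLeft K x)
      have hWle : W ≤ V ^ 2 := by
        rintro _ ⟨v, hv, rfl⟩
        exact mul_mem_sq hx hv
      have hWlt : W < V ^ 2 := by
        refine lt_of_le_of_ne hWle fun h => ?_
        apply hsing x hx
        intro a ha
        rw [← h] at ha
        obtain ⟨v, hv, rfl⟩ := ha
        exact ⟨v, hv, rfl⟩
      have h3 := Submodule.finrank_lt_finrank_of_lt hWlt
      have hWfin : FiniteDimensional K W := Submodule.finiteDimensional_of_le hWle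
      obtain ⟨w, hw⟩ := finrank_le_one_iff.1 (show finrank K W ≤ 1 by omega)
      refine ⟨w, fun v hv => ?_⟩
      obtain ⟨c, hc⟩ := hw ⟨x * v, ⟨v, hv, rfl⟩⟩
      exact ⟨c, (congrArg Subtype.val hc).symm⟩

end Cfsg.Agent.H591.Five
end

-- part: H591/Five/Quot
section
/-!
# The graded symmetric quotient of a free algebra

For elements `x i` of an algebra `A` with a trace form `lam` and a number `m`, the quotient of the
free algebra on the `x i` by the radical of the form "degree `m` part of `lam (P(x))`".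
-/

set_option autoImplicit false

namespace Cfsg.Agent.H591.Five

open Module

theorem map_cm {K A B : Type*} [Field K] [Ring A] [Algebra K A] [Ring B] [Algebra K B]
    (f : A →ₐ[K] B) (V W : Submodule K A) :
    (cm V W).map f.toLinearMap = cm (V.map f.toLinearMap) (W.map f.toLinearMap) := by
  rw [cm, cm, Submodule.map_span]
  congr 1
  ext z
  constructor
  · rintro ⟨_, ⟨x, hx, y, hy, rfl⟩, rfl⟩
    refine ⟨f x, ⟨x, hx, rfl⟩, f y, ⟨y, hy, rfl⟩, ?_⟩
    rw [AlgHom.toLinearMap_apply, map_sub, map_mul, map_mul]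
  · rintro ⟨_, ⟨x, hx, rfl⟩, _, ⟨y, hy, rfl⟩, rfl⟩
    refine ⟨x * y - y * x, ⟨x, hx, y, hy, rfl⟩, ?_⟩
    rw [AlgHom.toLinearMap_apply, map_sub, map_mul, map_mul]
    rfl

variable {K A : Type*} [Field K] [Ring A] [Algebra K A] {ι : Type*}

/-- The graded evaluation. -/
noncomputable def ev (K : Type*) {A : Type*} [Field K] [Ring A] [Algebra K A] {ι : Type*}
    (x : ι → A) : FreeAlgebra K ι →ₐ[K] Polynomial A :=
  FreeAlgebra.lift K fun i => Polynomial.monomial 1 (x i)

/-- The evaluation. -/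
noncomputable def ev1 (K : Type*) {A : Type*} [Field K] [Ring A] [Algebra K A] {ι : Type*}
    (x : ι → A) : FreeAlgebra K ι →ₐ[K] A := FreeAlgebra.lift K x

/-- The degree one part of the free algebra. -/
def deg1 (K ι : Type*) [Field K] : Submodule K (FreeAlgebra K ι) :=
  Submodule.span K (Set.range (FreeAlgebra.ι K))

theorem map_deg1 (x : ι → A) :
    (deg1 K ι).map (ev1 K x).toLinearMap = Submodule.span K (Set.range x) := by
  rw [deg1, Submodule.map_span, ← Set.range_comp]
  congr 1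
  ext z
  simp [ev1]

theorem map_deg1_pow (x : ι → A) (n : ℕ) :
    (deg1 K ι ^ n).map (ev1 K x).toLinearMap = Submodule.span K (Set.range x) ^ n := by
  rw [Submodule.map_pow, map_deg1]

theorem ev_of_mem (x : ι → A) (n : ℕ) : ∀ P ∈ deg1 K ι ^ n,
    ev K x P = Polynomial.monomial n (ev1 K x P) := by
  have h1 : ∀ P ∈ deg1 K ι, ev K x P = Polynomial.monomial 1 (ev1 K x P) := by
    intro P hP
    induction hP using Submodule.span_induction with
    | mem P hP =>
      obtain ⟨i, rfl⟩ := hP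
      rw [ev, ev1, FreeAlgebra.lift_ι_apply, FreeAlgebra.lift_ι_apply]
    | zero => simp
    | add P Q _ _ hP hQ => rw [map_add, map_add, hP, hQ, map_add]
    | smul c P _ hP =>
      rw [map_smul, map_smul, hP]
      ext k
      simp [Polynomial.coeff_monomial]
  induction n with
  | zero =>
    intro P hP
    rw [pow_zero] at hP
    obtain ⟨c, rfl⟩ := Submodule.mem_one.1 hP
    rw [AlgHom.commutes, AlgHom.commutes]
    rfl
  | succ n ih =>
    intro P hP
    rw [pow_succ] at hP
    induction hP using Submodule.mul_induction_on' with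
    | mem_mul_mem P hP Q hQ =>
      rw [map_mul, map_mul, ih P hP, h1 Q hQ, Polynomial.monomial_mul_monomial]
    | add P _ Q _ hP hQ => rw [map_add, map_add, hP, hQ, map_add]

variable (lam : A →ₗ[K] K) (x : ι → A) (m : ℕ)

/-- The form on the free algebra. -/
noncomputable def Phi : FreeAlgebra K ι →ₗ[K] K where
  toFun P := lam ((ev K x P).coeff m)
  map_add' P Q := by rw [map_add, Polynomial.coeff_add, map_add]
  map_smul' c P := by
    rw [map_smul, Polynomial.coeff_smul, map_smul]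
    rfl

theorem Phi_apply (P : FreeAlgebra K ι) : Phi lam x m P = lam ((ev K x P).coeff m) := rfl

variable {lam}

theorem Phi_comm (hs : ∀ a b, lam (a * b) = lam (b * a)) (P Q : FreeAlgebra K ι) :
    Phi lam x m (P * Q) = Phi lam x m (Q * P) := by
  rw [Phi_apply, Phi_apply, map_mul, map_mul, Polynomial.coeff_mul, Polynomial.coeff_mul, map_sum,
    map_sum]
  refine Finset.sum_equiv (Equiv.prodComm ℕ ℕ) ?_ ?_
  · intro p
    simp [add_comm]
  · intro p _
    exact hs _ _

theorem Phi_of_mem {n : ℕ} {P : FreeAlgebra K ι} (hP : P ∈ deg1 K ι ^ n) :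
    Phi lam x m P = if n = m then lam (ev1 K x P) else 0 := by
  rw [Phi_apply, ev_of_mem x n P hP, Polynomial.coeff_monomial]
  split_ifs with h
  · rfl
  · rw [map_zero]

theorem exists_mem_pow (Q : FreeAlgebra K ι) (S : Submodule K (FreeAlgebra K ι))
    (hS : ∀ k, deg1 K ι ^ k ≤ S) : Q ∈ S := by
  have h1 : Q ∈ Algebra.adjoin K (Set.range (FreeAlgebra.ι K : ι → FreeAlgebra K ι)) := by
    rw [FreeAlgebra.adjoin_range_ι]
    exact Algebra.mem_top
  have h2 : Q ∈ Submodule.span K (Submonoid.closure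
      (Set.range (FreeAlgebra.ι K : ι → FreeAlgebra K ι)) : Set (FreeAlgebra K ι)) := by
    rw [← Algebra.adjoin_eq_span]
    exact h1
  refine (Submodule.span_le.2 ?_) h2
  intro w hw
  obtain ⟨k, hk⟩ : ∃ k, w ∈ deg1 K ι ^ k := by
    induction hw using Submonoid.closure_induction with
    | mem w hw =>
      exact ⟨1, by rw [pow_one]; exact Submodule.subset_span hw⟩
    | one => exact ⟨0, by rw [pow_zero]; exact Submodule.one_le.1 le_rfl⟩
    | mul u v _ _ hu hv =>
      obtain ⟨k, hk⟩ := hu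
      obtain ⟨l, hl⟩ := hv
      exact ⟨k + l, by rw [pow_add]; exact Submodule.mul_mem_mul hk hl⟩
  exact hS k hk

/-- The radical of the form. -/
noncomputable def rad (_hs : ∀ a b, lam (a * b) = lam (b * a)) : Ideal (FreeAlgebra K ι) where
  carrier := {P | ∀ Q, Phi lam x m (Q * P) = 0}
  add_mem' := by
    intro P P' hP hP' Q
    rw [mul_add, map_add, hP, hP', add_zero]
  zero_mem' := by
    intro Q
    rw [mul_zero, map_zero]
  smul_mem' := by
    intro R P hP Q
    rw [smul_eq_mul, ← mul_assoc]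
    exact hP _

variable {x m}

theorem mem_rad {hs : ∀ a b, lam (a * b) = lam (b * a)} {P : FreeAlgebra K ι} :
    P ∈ rad x m hs ↔ ∀ Q, Phi lam x m (Q * P) = 0 := Iff.rfl

instance (hs : ∀ a b, lam (a * b) = lam (b * a)) : (rad x m hs).IsTwoSided := by
  refine ⟨fun {P} R hP Q => ?_⟩
  rw [← mul_assoc, Phi_comm x m hs, ← mul_assoc]
  exact hP _

section quot

variable (x m)
variable (hs : ∀ a b, lam (a * b) = lam (b * a))

/-- The form on the quotient. -/
noncomputable def barLam : (FreeAlgebra K ι ⧸ rad x m hs) →ₗ[K] K where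
  toFun := Quotient.lift (Phi lam x m) (by
    intro P Q hPQ
    have h1 : P - Q ∈ rad x m hs := by
      rw [← Submodule.quotientRel_def]
      exact hPQ
    have h2 := h1 1
    rw [one_mul, map_sub, sub_eq_zero] at h2
    exact h2)
  map_add' a b := by
    obtain ⟨P, rfl⟩ := Ideal.Quotient.mk_surjective a
    obtain ⟨Q, rfl⟩ := Ideal.Quotient.mk_surjective b
    exact map_add (Phi lam x m) P Q
  map_smul' c a := by
    obtain ⟨P, rfl⟩ := Ideal.Quotient.mk_surjective a
    exact map_smul (Phi lam x m) c P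

/-- The quotient map. -/
noncomputable def bar : FreeAlgebra K ι →ₐ[K] (FreeAlgebra K ι ⧸ rad x m hs) :=
  Ideal.Quotient.mkₐ K (rad x m hs)

theorem bar_surjective : Function.Surjective (bar x m hs) := Ideal.Quotient.mkₐ_surjective _ _

theorem barLam_bar (P : FreeAlgebra K ι) : barLam x m hs (bar x m hs P) = Phi lam x m P := rfl

theorem bar_eq_zero {P : FreeAlgebra K ι} : bar x m hs P = 0 ↔ P ∈ rad x m hs :=
  Ideal.Quotient.eq_zero_iff_mem

theorem barLam_comm (a b : FreeAlgebra K ι ⧸ rad x m hs) :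
    barLam x m hs (a * b) = barLam x m hs (b * a) := by
  obtain ⟨P, rfl⟩ := bar_surjective x m hs a
  obtain ⟨Q, rfl⟩ := bar_surjective x m hs b
  rw [← map_mul, ← map_mul, barLam_bar, barLam_bar, Phi_comm x m hs]

/-- The generating space of the quotient. -/
noncomputable def barV : Submodule K (FreeAlgebra K ι ⧸ rad x m hs) :=
  (deg1 K ι).map (bar x m hs).toLinearMap

theorem barV_pow (n : ℕ) :
    barV x m hs ^ n = (deg1 K ι ^ n).map (bar x m hs).toLinearMap := by
  rw [Submodule.map_pow]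
  rfl

/-- An element of degree `n` vanishes if it is orthogonal to the elements of degree `m - n`. -/
theorem bar_eq_zero_of_mem {n : ℕ} (hn : n ≤ m) {P : FreeAlgebra K ι} (hP : P ∈ deg1 K ι ^ n)
    (h : ∀ Q ∈ deg1 K ι ^ (m - n), lam (ev1 K x P * ev1 K x Q) = 0) : bar x m hs P = 0 := by
  rw [bar_eq_zero, mem_rad]
  intro Q
  let S : Submodule K (FreeAlgebra K ι) := LinearMap.ker (Phi lam x m ∘ₗ LinearMap.mulRight K P)
  have hQ : Q ∈ S := by
    refine exists_mem_pow Q S fun k Q hQ => ?_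
    rw [LinearMap.mem_ker, LinearMap.comp_apply, LinearMap.mulRight_apply,
      Phi_of_mem x m (n := k + n) (by rw [pow_add]; exact Submodule.mul_mem_mul hQ hP)]
    split_ifs with hk
    · rw [map_mul, hs]
      apply h
      rwa [show m - n = k by omega]
    · rfl
  exact hQ

theorem gr [Finite ι] (h4 : 4 ≤ m)
    (htop : ∃ a ∈ Submodule.span K (Set.range x) ^ m, lam a ≠ 0) :
    Gr (barV x m hs) (barLam x m hs) m where
  fin := by
    have : FiniteDimensional K (deg1 K ι) := FiniteDimensional.span_of_finite K (Set.finite_range _)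
    unfold barV
    infer_instance
  symm := barLam_comm x m hs
  nd := by
    intro n hn b hb h
    rw [barV_pow] at hb
    obtain ⟨P, hP, rfl⟩ := hb
    refine bar_eq_zero_of_mem x m hs hn hP fun Q hQ => ?_
    have h1 := h (bar x m hs Q) (by
      rw [barV_pow]
      exact ⟨Q, hQ, rfl⟩)
    rw [AlgHom.toLinearMap_apply, ← map_mul, barLam_bar,
      Phi_of_mem x m (n := m) (by
        have := Submodule.mul_mem_mul hP hQ
        rwa [← pow_add, show n + (m - n) = m by omega] at this), if_pos rfl, map_mul] at h1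
    exact h1
  top := by
    intro h
    obtain ⟨a, ha, ha0⟩ := htop
    rw [← map_deg1_pow] at ha
    obtain ⟨P, hP, rfl⟩ := ha
    apply ha0
    have h1 : bar x m hs P = 0 := by
      have : bar x m hs P ∈ barV x m hs ^ m := by
        rw [barV_pow]
        exact ⟨P, hP, rfl⟩
      rwa [h, Submodule.mem_bot] at this
    have h2 := barLam_bar x m hs P
    rw [h1, map_zero, Phi_of_mem x m hP, if_pos rfl] at h2
    exact h2.symm
  four := h4

theorem bar_eq_zero_of_pow {J : Submodule K A} (hJ : ∀ i, x i ∈ J) (hJm : J ^ (m + 1) = ⊥) {n : ℕ}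
    (hn : n ≤ m) {P : FreeAlgebra K ι} (hP : P ∈ deg1 K ι ^ n) (h : ev1 K x P ∈ J ^ (n + 1)) :
    bar x m hs P = 0 := by
  refine bar_eq_zero_of_mem x m hs hn hP fun Q hQ => ?_
  have h1 : ev1 K x Q ∈ J ^ (m - n) := by
    have h2 : ev1 K x Q ∈ Submodule.span K (Set.range x) ^ (m - n) := by
      rw [← map_deg1_pow]
      exact ⟨Q, hQ, rfl⟩
    have h3 : Submodule.span K (Set.range x) ≤ J := by
      rw [Submodule.span_le]
      rintro _ ⟨i, rfl⟩
      exact hJ i
    exact (pow_le_pow_left' h3 _) h2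
  have h2 := Submodule.mul_mem_mul h h1
  rw [← pow_add, show n + 1 + (m - n) = m + 1 by omega, hJm, Submodule.mem_bot] at h2
  rw [h2, map_zero]

theorem barV_pow_le {J : Submodule K A} (hJ : ∀ i, x i ∈ J) (hJm : J ^ (m + 1) = ⊥) {n : ℕ}
    (hn : n ≤ m) {X : Submodule K (FreeAlgebra K ι)} (hX : X ≤ deg1 K ι ^ n)
    (h : Submodule.span K (Set.range x) ^ n ≤ X.map (ev1 K x).toLinearMap ⊔ J ^ (n + 1)) :
    barV x m hs ^ n ≤ X.map (bar x m hs).toLinearMap := by
  rw [barV_pow]
  rintro _ ⟨P, hP, rfl⟩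
  have h1 : ev1 K x P ∈ Submodule.span K (Set.range x) ^ n := by
    rw [← map_deg1_pow]
    exact ⟨P, hP, rfl⟩
  obtain ⟨_, ⟨P', hP', rfl⟩, j, hj, hj2⟩ := Submodule.mem_sup.1 (h h1)
  refine ⟨P', hP', ?_⟩
  have h2 := bar_eq_zero_of_pow x m hs hJ hJm hn (P := P - P')
    (Submodule.sub_mem _ hP (hX hP')) (by
      rw [map_sub, ← hj2, AlgHom.toLinearMap_apply, add_sub_cancel_left]
      exact hj)
  rw [map_sub, sub_eq_zero] at h2
  exact h2.symm

end quot

theorem finrank_map_mkQ [FiniteDimensional K A] {S T : Submodule K A} (h : T ≤ S) :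
    finrank K (S.map T.mkQ) + finrank K T = finrank K S := by
  have h1 := LinearMap.finrank_range_add_finrank_ker (T.mkQ.domRestrict S)
  have h2 : LinearMap.range (T.mkQ.domRestrict S) = S.map T.mkQ := by
    rw [LinearMap.domRestrict, LinearMap.range_comp, Submodule.range_subtype]
  have h3 : LinearMap.ker (T.mkQ.domRestrict S) = T.comap S.subtype := by
    ext v
    rw [LinearMap.mem_ker, LinearMap.domRestrict_apply, Submodule.mkQ_apply,
      Submodule.Quotient.mk_eq_zero]
    rfl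
  rw [h2, h3, (Submodule.comapSubtypeEquivOfLe h).finrank_eq] at h1
  exact h1

/-- **Three generators.** -/
theorem false_of_three [IsAlgClosed K] [FiniteDimensional K A]
    (hs : ∀ a b, lam (a * b) = lam (b * a)) (x : Fin 3 → A) {m : ℕ} (h4 : 4 ≤ m)
    {J : Submodule K A} (hJ : ∀ i, x i ∈ J) (hJm : J ^ (m + 1) = ⊥) (h32 : J ^ 3 ≤ J ^ 2)
    (htop : ∃ a ∈ Submodule.span K (Set.range x) ^ m, lam a ≠ 0)
    (R1 : Submodule.span K (Set.range x) ^ 2 ≤
      cm (Submodule.span K (Set.range x)) (Submodule.span K (Set.range x)) ⊔ J ^ 3)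
    (hle : finrank K (J ^ 2 : Submodule K A) ≤ finrank K (J ^ 3 : Submodule K A) + 3)
    (R2 : finrank K (J ^ 2 : Submodule K A) = finrank K (J ^ 3 : Submodule K A) + 3 →
      Submodule.span K (Set.range x) ^ 3 ≤
      cm (Submodule.span K (Set.range x)) (Submodule.span K (Set.range x) ^ 2) ⊔ J ^ 4) : False := by
  have hfd : FiniteDimensional K (deg1 K (Fin 3)) :=
    FiniteDimensional.span_of_finite K (Set.finite_range _)
  have hG := gr x m hs h4 htop
  have hsq : barV x m hs ^ 2 ≤ cm (barV x m hs) (barV x m hs) := by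
    have := barV_pow_le x m hs hJ hJm (n := 2) (by omega)
      (X := cm (deg1 K (Fin 3)) (deg1 K (Fin 3))) cm_le_sq (by
        rw [map_cm, map_deg1]
        exact R1)
    rw [map_cm] at this
    exact this
  refine hG.false ?_ hsq fun h3 => ?_
  · -- at most three-dimensional
    have h1 : finrank K (deg1 K (Fin 3)) ≤ 3 := by
      have := finrank_range_le_card (R := K) (FreeAlgebra.ι K : Fin 3 → FreeAlgebra K (Fin 3))
      rw [Fintype.card_fin] at this
      exact this
    exact (Submodule.finrank_map_le _ _).trans h1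
  · have h5 : finrank K (barV x m hs ^ 2 : Submodule K _) + finrank K (J ^ 3 : Submodule K A) ≤
        finrank K (J ^ 2 : Submodule K A) := by
      have hfd2 := finite_pow hfd 2
      let f1 : (deg1 K (Fin 3) ^ 2 : Submodule K _) →ₗ[K] A ⧸ (J ^ 3) :=
        (J ^ 3).mkQ ∘ₗ (ev1 K x).toLinearMap ∘ₗ (deg1 K (Fin 3) ^ 2).subtype
      let f2 : (deg1 K (Fin 3) ^ 2 : Submodule K _) →ₗ[K] _ :=
        (bar x m hs).toLinearMap ∘ₗ (deg1 K (Fin 3) ^ 2).subtype
      have hker : LinearMap.ker f1 ≤ LinearMap.ker f2 := by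
        intro P hP
        rw [LinearMap.mem_ker] at hP ⊢
        refine bar_eq_zero_of_pow x m hs hJ hJm (n := 2) (by omega) P.2 ?_
        have h6 : (J ^ 3).mkQ (ev1 K x P) = 0 := hP
        rwa [Submodule.mkQ_apply, Submodule.Quotient.mk_eq_zero] at h6
      have e1 := LinearMap.finrank_range_add_finrank_ker f1
      have e2 := LinearMap.finrank_range_add_finrank_ker f2
      have e3 := Submodule.finrank_mono hker
      have e4 : LinearMap.range f2 = barV x m hs ^ 2 := by
        rw [barV_pow, LinearMap.range_comp, Submodule.range_subtype]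
      have e5 : LinearMap.range f1 ≤ (J ^ 2).map (J ^ 3).mkQ := by
        rintro _ ⟨P, rfl⟩
        refine ⟨ev1 K x P, ?_, rfl⟩
        have h2 : ev1 K x (P : FreeAlgebra K (Fin 3)) ∈ Submodule.span K (Set.range x) ^ 2 := by
          rw [← map_deg1_pow]
          exact ⟨P, P.2, rfl⟩
        have h3 : Submodule.span K (Set.range x) ≤ J := by
          rw [Submodule.span_le]
          rintro _ ⟨i, rfl⟩
          exact hJ i
        exact (pow_le_pow_left' h3 _) h2
      have e6 := Submodule.finrank_mono e5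
      have e7 := finrank_map_mkQ (K := K) h32
      rw [e4] at e2
      omega
    have h6 := R2 (by omega)
    have := barV_pow_le x m hs hJ hJm (n := 3) (by omega)
      (X := cm (deg1 K (Fin 3)) (deg1 K (Fin 3) ^ 2)) (by
        rw [cm, Submodule.span_le]
        rintro _ ⟨a, ha, b, hb, rfl⟩
        refine Submodule.sub_mem _ ?_ ?_
        · rw [pow_succ']
          exact Submodule.mul_mem_mul ha hb
        · rw [pow_succ]
          exact Submodule.mul_mem_mul hb ha) (by
        rw [map_cm, map_deg1_pow, map_deg1]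
        exact h6)
    rw [map_cm, ← barV_pow] at this
    exact this

end Cfsg.Agent.H591.Five
end

-- part: H591/Five/Main
section
/-!
# Local symmetric algebras with five-dimensional centre

`finrank_le_eight`: a local symmetric algebra over an algebraically closed field whose centre is
five-dimensional has dimension at most eight.
-/

set_option autoImplicit false
set_option linter.unusedSectionVars false

namespace Cfsg.Agent.H591.Five

open Module

variable {K A : Type*} [Field K] [Ring A] [Algebra K A]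

section general

variable {J : Submodule K A}

/-- A nilpotent space generated by commuting elements is commutative. -/
theorem comm_of_gen (hJ : J * J ≤ J) {N : ℕ} (hN : J ^ N = ⊥) {S : Set A} (hS : S ⊆ J)
    (hcomm : ∀ a ∈ S, ∀ b ∈ S, a * b = b * a) (hgen : J ≤ Submodule.span K S ⊔ J ^ 2) :
    ∀ y ∈ J, ∀ z ∈ J, y * z = z * y := by
  have hSJ : Submodule.span K S ≤ J := Submodule.span_le.2 hS
  have key : ∀ n : ℕ, J ≤ (Algebra.adjoin K S).toSubmodule ⊔ J ^ (n + 1) := by
    intro n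
    induction n with
    | zero => simp
    | succ n ih =>
      refine ih.trans (sup_le le_sup_left ?_)
      refine (H645.LocalAlg.pow_add_le (Submodule.span K S) J hJ hSJ hgen n).trans ?_
      refine sup_le_sup ?_ le_rfl
      have h1 : Submodule.span K S ≤ (Algebra.adjoin K S).toSubmodule :=
        Submodule.span_le.2 Algebra.subset_adjoin
      have h2 : ∀ n : ℕ, Submodule.span K S ^ (n + 1) ≤ (Algebra.adjoin K S).toSubmodule := by
        intro n
        induction n with
        | zero => rwa [zero_add, pow_one]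
        | succ n ih =>
          rw [pow_succ]
          refine Submodule.mul_le.2 fun a ha b hb => ?_
          exact Subalgebra.mul_mem _ (ih ha) (h1 hb)
      exact h2 n
  have hle : J ≤ (Algebra.adjoin K S).toSubmodule := by
    have h1 := key N
    have h2 : J ^ (N + 1) = ⊥ := by rw [pow_succ, hN, Submodule.bot_mul]
    rwa [h2, sup_bot_eq] at h1
  intro y hy z hz
  refine Algebra.commute_of_mem_adjoin_of_forall_mem_commute (R := K) (s := S) (a := y)
    (b := z) (hle hz) fun w hw => ?_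
  exact (Algebra.commute_of_mem_adjoin_of_forall_mem_commute (R := K) (s := S) (a := w)
    (b := y) (hle hy) fun v hv => hcomm w hw v hv).symm

theorem cm_eq_bot_iff : cm J J = ⊥ ↔ ∀ y ∈ J, ∀ z ∈ J, y * z = z * y := by
  constructor
  · intro h y hy z hz
    have := cm_mem hy hz
    rw [h, Submodule.mem_bot, sub_eq_zero] at this
    exact this
  · intro h
    rw [eq_bot_iff, cm, Submodule.span_le]
    rintro _ ⟨y, hy, z, hz, rfl⟩
    rw [SetLike.mem_coe, Submodule.mem_bot, h y hy z hz, sub_self]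

/-- Commutators in terms of a generating space. -/
theorem cm_le_of_gen (hJ : J * J ≤ J) {U : Submodule K A} (hU : U ≤ J) (hgen : J ≤ U ⊔ J ^ 2) :
    cm J J ≤ cm U U ⊔ cm J (J ^ 2) := by
  rw [cm, Submodule.span_le]
  rintro _ ⟨a, ha, b, hb, rfl⟩
  obtain ⟨u, hu, r, hr, rfl⟩ := Submodule.mem_sup.1 (hgen ha)
  obtain ⟨v, hv, s, hs, rfl⟩ := Submodule.mem_sup.1 (hgen hb)
  have hsJ : s ∈ J := by
    have := pow_anti hJ le_rfl (show 1 ≤ 2 by omega) hs
    rwa [pow_one] at this
  have e : (u + r) * (v + s) - (v + s) * (u + r) = (u * v - v * u) + ((u * s - s * u) -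
      ((v + s) * r - r * (v + s))) := by noncomm_ring
  rw [SetLike.mem_coe, e]
  exact Submodule.add_mem_sup (cm_mem hu hv) (Submodule.sub_mem _ (cm_mem (hU hu) hs)
    (cm_mem (J.add_mem (hU hv) hsJ) hr))

theorem cm_two_le : cm J (J ^ 2) ≤ J ^ 3 := by
  rw [cm, Submodule.span_le]
  rintro _ ⟨a, ha, b, hb, rfl⟩
  exact Submodule.sub_mem _ (mm (m1 ha) hb) (mm hb (m1 ha))

/-- `J ^ 3` consists of commutators `[J, J ^ 2]` and the last power. -/
theorem three_of [FiniteDimensional K A] (hJ : J * J ≤ J) {U : Submodule K A} (hU : U ≤ J)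
    (hgen : J ≤ U ⊔ J ^ 2) {m : ℕ} (hm : 3 ≤ m) (h3 : J ^ 3 ≤ cm J J ⊔ J ^ m)
    (hdim : finrank K (cm U U) + finrank K (J ^ 3 : Submodule K A) ≤
      finrank K (cm U U ⊔ J ^ 3 : Submodule K A)) : J ^ 3 ≤ cm J (J ^ 2) ⊔ J ^ m := by
  have h1 := Submodule.finrank_sup_add_finrank_inf_eq (cm U U) (J ^ 3)
  have h2 : finrank K (cm U U ⊓ J ^ 3 : Submodule K A) = 0 := by omega
  have h4 : cm U U ⊓ J ^ 3 = ⊥ := Submodule.finrank_eq_zero.1 h2
  intro a ha
  obtain ⟨c, hc, s, hs, rfl⟩ := Submodule.mem_sup.1 (h3 ha)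
  obtain ⟨c₀, hc₀, c₁, hc₁, rfl⟩ := Submodule.mem_sup.1 (cm_le_of_gen hJ hU hgen hc)
  have hs3 : s ∈ J ^ 3 := pow_anti hJ (by omega) hm hs
  have hc₁3 : c₁ ∈ J ^ 3 := cm_two_le hc₁
  have h5 : c₀ ∈ cm U U ⊓ J ^ 3 := by
    refine ⟨hc₀, ?_⟩
    have : c₀ = c₀ + c₁ + s - c₁ - s := by abel
    rw [this]
    exact Submodule.sub_mem _ (Submodule.sub_mem _ ha hc₁3) hs3
  rw [h4, Submodule.mem_bot] at h5
  rw [h5, zero_add]
  exact Submodule.add_mem_sup hc₁ hs

theorem pow_lt [FiniteDimensional K A] {m : ℕ} (hbot : J ^ (m + 1) = ⊥) {n : ℕ}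
    (h : J ^ n ≤ J ^ (n + 1)) : J ^ n = ⊥ := by
  have hall : ∀ k, J ^ n ≤ J ^ (k + n) := by
    intro k
    induction k with
    | zero => rw [zero_add]
    | succ k ih =>
      calc J ^ n ≤ J ^ (n + 1) := h
        _ = J * J ^ n := pow_succ' J n
        _ ≤ J * J ^ (k + n) := mul_le_mul_right ih _
        _ = J ^ (k + 1 + n) := by rw [← pow_succ']; congr 1; omega
  rw [eq_bot_iff]
  refine (hall (m + 1)).trans ?_
  rw [pow_add, hbot, Submodule.bot_mul]

end general

section loc

open H632.SymLocal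

variable {lam : A →ₗ[K] K} {π : A →ₐ[K] K}

theorem J_mul : J π * J π ≤ J π := by
  rw [Submodule.mul_le]
  intro x _ y hy
  exact mul_mem_J_left x hy

theorem exists_split (a : A) : ∃ c : K, ∃ j ∈ J π, a = algebraMap K A c + j :=
  ⟨π a, a - algebraMap K A (π a), sub_mem_J a, by abel⟩

/-- The orthogonal of the commutators is the centre. -/
theorem perp_cm (hs : ∀ a b, lam (a * b) = lam (b * a))
    (hn : ∀ a, (∀ b, lam (a * b) = 0) → a = 0) :
    perp lam (cm (J π) (J π)) = Subalgebra.toSubmodule (Subalgebra.center K A) := by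
  ext a
  rw [Subalgebra.mem_toSubmodule, Subalgebra.mem_center_iff]
  constructor
  · intro ha
    have h1 : ∀ x ∈ J π, x * a = a * x := by
      intro x hx
      rw [← sub_eq_zero]
      refine hn _ fun b => ?_
      obtain ⟨c, j, hj, rfl⟩ := exists_split (π := π) b
      have h2 : lam ((x * a - a * x) * (algebraMap K A c)) = 0 := by
        rw [← Algebra.commutes, ← Algebra.smul_def, map_smul, map_sub, hs, sub_self, smul_zero]
      have h3 : lam ((x * a - a * x) * j) = 0 := by
        have h4 := ha (j * x - x * j) (cm_mem hj hx)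
        have h5 : lam ((x * a - a * x) * j) = lam (a * (j * x - x * j)) := by
          rw [sub_mul, mul_sub, map_sub, map_sub, ← mul_assoc, ← mul_assoc, mul_assoc x a j,
            hs x (a * j)]
        rw [h5, h4]
      rw [mul_add, map_add, h2, h3, add_zero]
    intro b
    obtain ⟨c, j, hj, rfl⟩ := exists_split (π := π) b
    rw [add_mul, mul_add, h1 j hj, Algebra.commutes]
  · intro ha
    rw [mem_perp]
    have h1 : cm (J π) (J π) ≤ LinearMap.ker (lam ∘ₗ LinearMap.mulLeft K a) := by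
      rw [cm, Submodule.span_le]
      rintro _ ⟨x, -, y, -, rfl⟩
      rw [SetLike.mem_coe, LinearMap.mem_ker]
      show lam (a * (x * y - y * x)) = 0
      rw [mul_sub, map_sub, sub_eq_zero, ← mul_assoc, ← ha x, mul_assoc, hs, mul_assoc]
    exact fun b hb => LinearMap.mem_ker.1 (h1 hb)

variable [FiniteDimensional K A]

theorem finrank_cm (hs : ∀ a b, lam (a * b) = lam (b * a))
    (hn : ∀ a, (∀ b, lam (a * b) = 0) → a = 0) :
    finrank K (Subalgebra.center K A) + finrank K (cm (J π) (J π)) = finrank K A := by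
  have h1 := finrank_perp hs hn (cm (J π) (J π))
  rw [perp_cm hs hn] at h1
  exact h1

theorem mem_perp_pow {n : ℕ} {a : A} {k : ℕ} (hbot : J π ^ (n + k) = ⊥) (ha : a ∈ J π ^ n) :
    a ∈ perp lam (J π ^ k) := by
  intro b hb
  have := mm (n := n + k) ha hb
  rw [hbot, Submodule.mem_bot] at this
  rw [this, map_zero]

/-- Elements orthogonal to `J ^ k` annihilate it. -/
theorem mul_eq_zero_of_perp (hn : ∀ a, (∀ b, lam (a * b) = 0) → a = 0) {k : ℕ} {a b : A}
    (ha : a ∈ perp lam (J π ^ (k + 1))) (hb : b ∈ J π ^ (k + 1)) : a * b = 0 := by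
  refine hn _ fun c => ?_
  rw [mul_assoc]
  exact ha _ (mul_mem_pow_right k c hb)

theorem perp_le_J (hn : ∀ a, (∀ b, lam (a * b) = 0) → a = 0) {k m : ℕ} (hk : k + 1 ≤ m)
    (hbot : J π ^ (m + 1) = ⊥) (hne : J π ^ m ≠ ⊥) : perp lam (J π ^ (k + 1)) ≤ J π := by
  intro a ha
  obtain ⟨b, hb, hb0⟩ := Submodule.exists_mem_ne_zero_of_ne_bot hne
  have hb' : b ∈ J π ^ (k + 1) := pow_anti J_mul (by omega) hk hb
  have h1 := mul_eq_zero_of_perp hn ha hb'
  have h2 : (a - algebraMap K A (π a)) * b = 0 := by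
    have := mm (n := m + 1) (m1 (sub_mem_J (π := π) a)) hb
    rwa [hbot, Submodule.mem_bot] at this
  rw [sub_mul, h1, zero_sub, neg_eq_zero, ← Algebra.smul_def] at h2
  rw [mem_J]
  exact (smul_eq_zero.1 h2).resolve_right hb0

/-- The case `dim J / J ^ 2 = 2`, `dim J ^ 2 / J ^ 3 ≤ 1`. -/
theorem comm_of_small (hs : ∀ a b, lam (a * b) = lam (b * a))
    (hn : ∀ a, (∀ b, lam (a * b) = 0) → a = 0) {m : ℕ} (hm : 3 ≤ m)
    (hbot : J π ^ (m + 1) = ⊥) (hne : J π ^ m ≠ ⊥)
    (h1 : finrank K (J π) = finrank K (J π ^ 2 : Submodule K A) + 2)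
    (h2 : finrank K (J π ^ 2 : Submodule K A) ≤ finrank K (J π ^ 3 : Submodule K A) + 1)
    (hm1 : finrank K (J π ^ m : Submodule K A) ≤ 1) :
    ∀ y ∈ J π, ∀ z ∈ J π, y * z = z * y := by
  have hJ : J π * J π ≤ J π := J_mul
  have h32 : J π ^ 3 ≤ J π ^ 2 := pow_anti hJ (by omega) (by omega)
  have hJ2 : J π ^ 2 ≤ J π := pow_le_J 1
  have hA := finrank_J π
  -- a product outside `J ^ 3`
  obtain ⟨u, hu, v, hv, huv⟩ : ∃ u ∈ J π, ∃ v ∈ J π, u * v ∉ J π ^ 3 := by
    by_contra hcon
    push Not at hcon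
    have h3 : J π ^ 2 ≤ J π ^ 3 := by
      rw [pow_two, Submodule.mul_le]
      exact hcon
    have h4 := pow_lt (n := 2) hbot h3
    apply hne
    rw [eq_bot_iff, ← h4]
    exact pow_anti hJ (by omega) (by omega)
  have huv2 : u * v ∈ J π ^ 2 := mm (m1 hu) (m1 hv)
  have h23 : J π ^ 2 ≤ Submodule.span K {u * v} ⊔ J π ^ 3 := by
    have h3 : J π ^ 3 < Submodule.span K {u * v} ⊔ J π ^ 3 :=
      lt_of_le_of_ne le_sup_right fun h => huv (by
        rw [h]; exact Submodule.mem_sup_left (Submodule.mem_span_singleton_self _))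
    have h4 := Submodule.finrank_lt_finrank_of_lt h3
    have h5 : Submodule.span K {u * v} ⊔ J π ^ 3 ≤ J π ^ 2 :=
      sup_le (by rw [Submodule.span_singleton_le_iff_mem]; exact huv2) h32
    exact (Submodule.eq_of_le_of_finrank_le h5 (by omega)).ge
  have hpow : ∀ n : ℕ, J π ^ (n + 2) ≤ Submodule.span K {u ^ (n + 1) * v} ⊔ J π ^ (n + 3) := by
    intro n
    induction n with
    | zero => rwa [zero_add, pow_one]
    | succ n ih =>
      rw [show n + 1 + 2 = (n + 2) + 1 by ring, pow_succ, Submodule.mul_le]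
      intro a ha p hp
      obtain ⟨a₁, ha₁, a₂, ha₂, rfl⟩ := Submodule.mem_sup.1 (ih ha)
      obtain ⟨c, rfl⟩ := Submodule.mem_span_singleton.1 ha₁
      obtain ⟨b₁, hb₁, b₂, hb₂, e⟩ := Submodule.mem_sup.1 (h23 (mm (n := 2) (m1 hv) (m1 hp)))
      obtain ⟨d, rfl⟩ := Submodule.mem_span_singleton.1 hb₁
      have e1 : (c • (u ^ (n + 1) * v) + a₂) * p = (c * d) • (u ^ (n + 1 + 1) * v) +
          (c • (u ^ (n + 1) * b₂) + a₂ * p) := by
        rw [add_mul, smul_mul_assoc, mul_assoc, ← e, mul_add, mul_smul_comm, smul_add, smul_smul,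
          pow_succ u (n + 1), mul_assoc, add_assoc]
      rw [e1]
      refine Submodule.add_mem_sup (Submodule.smul_mem _ _ (Submodule.mem_span_singleton_self _))
        (Submodule.add_mem _ (Submodule.smul_mem _ _ ?_) ?_)
      · exact mm (Submodule.pow_mem_pow _ hu (n + 1)) hb₂
      · exact mm ha₂ (m1 hp)
  -- a central element outside `J ^ 2`
  set T := perp lam (J π ^ 2) with hT
  have hTfin := finrank_perp hs hn (J π ^ 2)
  rw [← hT] at hTfin
  obtain ⟨z, hzT, hzm⟩ : ∃ z ∈ T, z ∉ J π ^ (m - 1) := by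
    by_contra hcon
    push Not at hcon
    have h3 : T ≤ J π ^ (m - 1) := hcon
    have h4 := Submodule.finrank_mono h3
    obtain ⟨k, rfl⟩ : ∃ k, m = k + 3 := ⟨m - 3, by omega⟩
    have h5 := Submodule.finrank_mono (hpow k)
    have h6 := Submodule.finrank_add_le_finrank_add_finrank
      (Submodule.span K {u ^ (k + 1) * v}) (J π ^ (k + 3))
    have h7 := finrank_span_singleton_le' (K := K) (u ^ (k + 1) * v)
    have h8 : k + 3 - 1 = k + 2 := by omega
    rw [h8] at h4
    omega
  have hzJ : z ∈ J π := perp_le_J hn (k := 1) (by omega) hbot hne hzT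
  have hzc : ∀ a, z * a = a * z := by
    intro a
    have := perp_le_center (π := π) hs hn hzT
    rw [Subalgebra.mem_center_iff] at this
    exact (this a).symm
  have hz2 : z ∉ J π ^ 2 := by
    intro hz2
    -- the largest power containing `z`
    obtain ⟨k, hk2, hkm, hzk, hzk1⟩ : ∃ k, 2 ≤ k ∧ k + 2 ≤ m ∧ z ∈ J π ^ k ∧ z ∉ J π ^ (k + 1) := by
      by_contra hcon
      push Not at hcon
      have h3 : ∀ j, j + 3 ≤ m → z ∈ J π ^ (j + 2) := by
        intro j
        induction j with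
        | zero => exact fun _ => hz2
        | succ j ih =>
          intro hj
          exact hcon (j + 2) (by omega) (by omega) (ih (by omega))
      apply hzm
      have := h3 (m - 3) (by omega)
      rwa [show m - 3 + 2 = m - 1 by omega] at this
    obtain ⟨n, rfl⟩ : ∃ n, k = n + 2 := ⟨k - 2, by omega⟩
    obtain ⟨a₁, ha₁, a₂, ha₂, e⟩ := Submodule.mem_sup.1 (hpow n hzk)
    obtain ⟨c, rfl⟩ := Submodule.mem_span_singleton.1 ha₁
    have hc : c ≠ 0 := by
      rintro rfl
      apply hzk1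
      rw [← e, zero_smul, zero_add]
      exact ha₂
    have h3 : J π ^ (n + 2) ≤ Submodule.span K {z} ⊔ J π ^ (n + 3) := by
      refine (hpow n).trans (sup_le ?_ le_sup_right)
      rw [Submodule.span_singleton_le_iff_mem]
      have e1 : u ^ (n + 1) * v = c⁻¹ • z + (-(c⁻¹ • a₂)) := by
        rw [← e, smul_add, smul_smul, inv_mul_cancel₀ hc, one_smul]
        abel
      rw [e1]
      exact Submodule.add_mem_sup (Submodule.smul_mem _ _ (Submodule.mem_span_singleton_self z))
        (Submodule.neg_mem _ (Submodule.smul_mem _ _ ha₂))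
    apply hne
    rw [eq_bot_iff]
    have h4 : J π ^ (n + 2 + (m - (n + 2))) ≤ ⊥ := by
      rw [pow_add, Submodule.mul_le]
      intro a ha b hb
      obtain ⟨a₁, ha₁, a₂, ha₂, rfl⟩ := Submodule.mem_sup.1 (h3 ha)
      obtain ⟨d, rfl⟩ := Submodule.mem_span_singleton.1 ha₁
      have hb2 : b ∈ J π ^ 2 := pow_anti hJ (by omega) (by omega) hb
      have h5 : a₂ * b ∈ J π ^ (m + 1) := mm ha₂ hb
      rw [hbot, Submodule.mem_bot] at h5
      rw [add_mul, h5, smul_mul_assoc, mul_eq_zero_of_perp hn (k := 1) hzT hb2, smul_zero, add_zero]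
      exact Submodule.zero_mem _
    rwa [show n + 2 + (m - (n + 2)) = m by omega] at h4
  -- the second generator
  have h3 : J π ^ 2 < Submodule.span K {z} ⊔ J π ^ 2 :=
    lt_of_le_of_ne le_sup_right fun h => hz2 (by
      rw [h]; exact Submodule.mem_sup_left (Submodule.mem_span_singleton_self _))
  have h4 := Submodule.finrank_lt_finrank_of_lt h3
  have h5 : Submodule.span K {z} ⊔ J π ^ 2 ≤ J π :=
    sup_le (by rw [Submodule.span_singleton_le_iff_mem]; exact hzJ) hJ2
  obtain ⟨w, hw, hJw⟩ := H645.LocalAlg.exists_span_single (Submodule.span K {z} ⊔ J π ^ 2) (J π) h5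
    (by omega)
  refine comm_of_gen hJ hbot (S := {w, z}) ?_ ?_ ?_
  · rintro a (rfl | ha)
    · exact hw
    · rw [Set.mem_singleton_iff] at ha
      rw [ha]
      exact hzJ
  · rintro a (rfl | ha) b (rfl | hb)
    · rfl
    · rw [Set.mem_singleton_iff] at hb
      rw [hb, hzc]
    · rw [Set.mem_singleton_iff] at ha
      rw [ha, hzc]
    · rw [Set.mem_singleton_iff] at ha hb
      rw [ha, hb]
  · refine hJw.trans (sup_le ?_ (sup_le ?_ le_sup_right))
    · exact (Submodule.span_mono (by simp)).trans le_sup_left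
    · exact (Submodule.span_mono (by simp)).trans le_sup_left

/-- **Theorem** (Chlebowitz-Külshammer): a local symmetric algebra over an algebraically closed field
with five-dimensional centre has dimension at most eight. -/
theorem finrank_le_eight [IsAlgClosed K] (hs : ∀ a b, lam (a * b) = lam (b * a))
    (hn : ∀ a, (∀ b, lam (a * b) = 0) → a = 0) (hπ : ∀ a, π a = 0 → IsNilpotent a)
    (hZ : finrank K (Subalgebra.center K A) = 5) : finrank K A ≤ 8 := by
  have hJ : J π * J π ≤ J π := J_mul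
  have hJ2 : J π ^ 2 ≤ J π := pow_le_J 1
  have hA := finrank_J π
  have hC := finrank_cm (π := π) hs hn
  rw [hZ] at hC
  -- the commutative case
  by_cases hcomm : ∀ y ∈ J π, ∀ z ∈ J π, y * z = z * y
  · rw [cm_eq_bot_iff.2 hcomm, finrank_bot] at hC
    omega
  -- the last power
  obtain ⟨m, hbot, hne⟩ : ∃ m, J π ^ (m + 1) = ⊥ ∧ J π ^ m ≠ ⊥ := by
    classical
    have hex : ∃ n, J π ^ n = ⊥ := exists_pow_eq_bot hπ
    have h0 : Nat.find hex ≠ 0 := by
      intro h0
      have h1 := Nat.find_spec hex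
      rw [h0, pow_zero] at h1
      apply hcomm
      have h2 : (1 : A) = 0 := by
        have : (1 : A) ∈ (1 : Submodule K A) := Submodule.one_le.1 le_rfl
        rwa [h1, Submodule.mem_bot] at this
      intro y _ z _
      rw [← mul_one (y * z), ← mul_one (z * y), h2, mul_zero, mul_zero]
    refine ⟨Nat.find hex - 1, ?_, ?_⟩
    · rw [Nat.sub_add_cancel (by omega)]
      exact Nat.find_spec hex
    · exact Nat.find_min hex (by omega)
  have hm2 : 2 ≤ m := by
    by_contra hm
    apply hcomm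
    have h1 : J π ^ 2 = ⊥ := pow_eq_bot hbot (by omega)
    intro y hy z hz
    have e1 : y * z ∈ J π ^ 2 := mm (m1 hy) (m1 hz)
    have e2 : z * y ∈ J π ^ 2 := mm (m1 hz) (m1 hy)
    rw [h1, Submodule.mem_bot] at e1 e2
    rw [e1, e2]
  -- the form on the last power
  have htop : ∀ a ∈ J π ^ m, lam a = 0 → a = 0 := by
    intro a ha h0
    refine hn a fun b => ?_
    obtain ⟨c, j, hj, rfl⟩ := exists_split (π := π) b
    have h1 : a * j ∈ J π ^ (m + 1) := mm ha (m1 hj)
    rw [hbot, Submodule.mem_bot] at h1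
    rw [mul_add, h1, add_zero, ← Algebra.commutes, ← Algebra.smul_def, map_smul, h0, smul_zero]
  have htop' : ∃ a ∈ J π ^ m, lam a ≠ 0 := by
    obtain ⟨a, ha, ha0⟩ := Submodule.exists_mem_ne_zero_of_ne_bot hne
    exact ⟨a, ha, fun h => ha0 (htop a ha h)⟩
  have hcmlam : ∀ a ∈ cm (J π) (J π), lam a = 0 := by
    have h1 : cm (J π) (J π) ≤ LinearMap.ker lam := by
      rw [cm, Submodule.span_le]
      rintro _ ⟨x, -, y, -, rfl⟩
      rw [SetLike.mem_coe, LinearMap.mem_ker, map_sub, hs, sub_self]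
    exact fun a ha => LinearMap.mem_ker.1 (h1 ha)
  have hm1 : finrank K (J π ^ m : Submodule K A) ≤ 1 := by
    have h1 := finrank_perp hs hn (J π)
    have h2 : J π ^ m ≤ perp lam (J π) := by
      intro a ha
      have := mem_perp_pow (lam := lam) (k := 1) hbot ha
      rwa [pow_one] at this
    have h3 := Submodule.finrank_mono h2
    omega
  have hpos : 0 < finrank K (J π ^ m : Submodule K A) := by
    rw [Module.finrank_pos_iff, Submodule.nontrivial_iff_ne_bot]
    exact hne
  have hdisj : J π ^ m ⊓ cm (J π) (J π) = ⊥ := by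
    rw [Submodule.eq_bot_iff]
    rintro a ⟨ha, ha'⟩
    exact htop a ha (hcmlam a ha')
  have hcm2 : cm (J π) (J π) ≤ J π ^ 2 := cm_le_sq
  have hm2' : J π ^ m ≤ J π ^ 2 := pow_anti hJ (by omega) hm2
  set S := J π ^ m ⊔ cm (J π) (J π) with hSdef
  have hS2 : S ≤ J π ^ 2 := sup_le hm2' hcm2
  have hSfin := Submodule.finrank_sup_add_finrank_inf_eq (J π ^ m) (cm (J π) (J π))
  rw [hdisj, finrank_bot, add_zero, ← hSdef] at hSfin
  have hS2fin := Submodule.finrank_mono hS2
  have hJ2fin := Submodule.finrank_mono hJ2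
  -- at most one generator
  by_cases hr1 : finrank K (J π) ≤ finrank K (J π ^ 2 : Submodule K A) + 1
  · exfalso
    obtain ⟨x, hx, hJx⟩ := H645.LocalAlg.exists_span_single (J π ^ 2) (J π) hJ2 hr1
    exact hcomm (H645.LocalAlg.comm_of_span_singleton hJ hbot x hx hJx)
  have hr : finrank K (J π) = finrank K (J π ^ 2 : Submodule K A) + 2 ∨
      finrank K (J π) = finrank K (J π ^ 2 : Submodule K A) + 3 := by omega
  by_cases hm3 : m = 2
  · subst hm3
    omega
  have h3m : J π ^ m ≤ J π ^ 3 := pow_anti hJ (by omega) (by omega)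
  have h32 : J π ^ 3 ≤ J π ^ 2 := pow_anti hJ (by omega) (by omega)
  rcases hr with hr | hr
  · -- two generators
    obtain ⟨x, hx, y, hy, hgen⟩ := H645.LocalAlg.exists_span_pair (J π ^ 2) (J π) hJ2 (by omega)
    have hcmz : cm (J π) (J π) ≤ Submodule.span K {x * y - y * x} ⊔ J π ^ 3 := by
      rw [cm, Submodule.span_le]
      rintro _ ⟨p, hp, q, hq, rfl⟩
      obtain ⟨d, r, hr, e⟩ := comm_mod hJ hx hy hgen hp hq
      rw [SetLike.mem_coe, e]
      exact Submodule.add_mem_sup (Submodule.smul_mem _ _ (Submodule.mem_span_singleton_self _)) hr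
    have hSz : S ≤ Submodule.span K {x * y - y * x} ⊔ J π ^ 3 :=
      sup_le (h3m.trans le_sup_right) hcmz
    have hzfin : finrank K (Submodule.span K {x * y - y * x} ⊔ J π ^ 3 : Submodule K A) ≤
        finrank K (J π ^ 3 : Submodule K A) + 1 := by
      have h1 := Submodule.finrank_add_le_finrank_add_finrank
        (Submodule.span K {x * y - y * x}) (J π ^ 3)
      have h2 := finrank_span_singleton_le' (K := K) (x * y - y * x)
      omega
    have hSle := Submodule.finrank_mono hSz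
    have hd2 : finrank K (J π ^ 2 : Submodule K A) ≤ finrank K (J π ^ 3 : Submodule K A) + 2 := by
      omega
    by_cases hm4 : m = 3
    · subst hm4
      omega
    by_cases hsmall : finrank K (J π ^ 2 : Submodule K A) ≤
        finrank K (J π ^ 3 : Submodule K A) + 1
    · exact absurd (comm_of_small hs hn (by omega) hbot hne (by omega) hsmall hm1) hcomm
    -- the cubic elements
    have h3S : J π ^ 3 ≤ S := by
      have h1 : S ⊔ J π ^ 3 ≤ Submodule.span K {x * y - y * x} ⊔ J π ^ 3 :=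
        sup_le hSz le_sup_right
      have h2 := Submodule.finrank_mono h1
      have h3 : S = S ⊔ J π ^ 3 := Submodule.eq_of_le_of_finrank_le le_sup_left (by omega)
      rw [h3]
      exact le_sup_right
    have hthree : J π ^ 3 ≤ cm (J π) (J π ^ 2) ⊔ J π ^ m := by
      set U := Submodule.span K ({x, y} : Set A) with hU
      have hUJ : U ≤ J π := by
        rw [hU, Submodule.span_le]
        rintro a (rfl | ha)
        · exact hx
        · rw [Set.mem_singleton_iff] at ha
          rw [ha]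
          exact hy
      have hUz : cm U U ≤ Submodule.span K {x * y - y * x} := by
        rw [cm, Submodule.span_le]
        rintro _ ⟨p, hp, q, hq, rfl⟩
        obtain ⟨α, β, rfl⟩ := Submodule.mem_span_pair.1 hp
        obtain ⟨γ, δ, rfl⟩ := Submodule.mem_span_pair.1 hq
        rw [SetLike.mem_coe, Submodule.mem_span_singleton]
        refine ⟨α * δ - β * γ, ?_⟩
        simp only [add_mul, mul_add, smul_mul_assoc, mul_smul_comm, smul_sub]
        module
      have hUfin := (Submodule.finrank_mono hUz).trans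
        (finrank_span_singleton_le' (K := K) (x * y - y * x))
      have hle : cm (J π) (J π) ≤ cm U U ⊔ J π ^ 3 :=
        (cm_le_of_gen hJ hUJ hgen).trans (sup_le_sup le_rfl cm_two_le)
      have hSle' : S ≤ cm U U ⊔ J π ^ 3 := sup_le (h3m.trans le_sup_right) hle
      have h5 := Submodule.finrank_mono hSle'
      exact three_of hJ hUJ hgen (by omega) (by rw [sup_comm, ← hSdef]; exact h3S) (by omega)
    have hNil : Nil (J π) lam m := ⟨hJ, hbot, hs, htop', hthree⟩
    have hm5 := hNil.le_four hx hy hgen hd2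
    have hm4' : m = 4 := by omega
    subst hm4'
    have h5 : J π ^ 3 ≤ perp lam (J π ^ 2) := fun a ha =>
      mem_perp_pow (lam := lam) (n := 3) (k := 2) hbot ha
    have h6 := Submodule.finrank_mono h5
    have h7 := finrank_perp hs hn (J π ^ 2)
    omega
  · -- three generators
    obtain ⟨x, hxJ, hgen⟩ : ∃ x : Fin 3 → A, (∀ i, x i ∈ J π) ∧
        J π ≤ Submodule.span K (Set.range x) ⊔ J π ^ 2 := by
      obtain ⟨a, ha, ha2⟩ : ∃ a ∈ J π, a ∉ J π ^ 2 := by
        by_contra hcon
        push Not at hcon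
        have h1 : J π ≤ J π ^ 2 := hcon
        have := Submodule.finrank_mono h1
        omega
      have h1 : J π ^ 2 < Submodule.span K {a} ⊔ J π ^ 2 :=
        lt_of_le_of_ne le_sup_right fun h => ha2 (by
          rw [h]; exact Submodule.mem_sup_left (Submodule.mem_span_singleton_self _))
      have h2 := Submodule.finrank_lt_finrank_of_lt h1
      obtain ⟨b, hb, c, hc, h3⟩ := H645.LocalAlg.exists_span_pair
        (Submodule.span K {a} ⊔ J π ^ 2) (J π)
        (sup_le (by rw [Submodule.span_singleton_le_iff_mem]; exact ha) hJ2) (by omega)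
      refine ⟨![a, b, c], ?_, ?_⟩
      · intro i
        fin_cases i
        · exact ha
        · exact hb
        · exact hc
      · refine h3.trans (sup_le ?_ (sup_le ?_ le_sup_right))
        · refine le_trans (Submodule.span_le.2 ?_) le_sup_left
          rintro z (rfl | hz)
          · exact Submodule.subset_span ⟨1, rfl⟩
          · rw [Set.mem_singleton_iff] at hz
            rw [hz]
            exact Submodule.subset_span ⟨2, rfl⟩
        · refine le_trans (Submodule.span_le.2 ?_) le_sup_left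
          rintro z hz
          rw [Set.mem_singleton_iff] at hz
          rw [hz]
          exact Submodule.subset_span ⟨0, rfl⟩
    set U := Submodule.span K (Set.range x) with hU
    have hUJ : U ≤ J π := by
      rw [hU, Submodule.span_le]
      rintro _ ⟨i, rfl⟩
      exact hxJ i
    have hSeq : S = J π ^ 2 := Submodule.eq_of_le_of_finrank_le hS2 (by omega)
    have hle : cm (J π) (J π) ≤ cm U U ⊔ J π ^ 3 :=
      (cm_le_of_gen hJ hUJ hgen).trans (sup_le_sup le_rfl cm_two_le)
    have h2le : J π ^ 2 ≤ cm U U ⊔ J π ^ 3 := by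
      rw [← hSeq]
      exact sup_le (h3m.trans le_sup_right) hle
    have hUfd : FiniteDimensional K U := inferInstance
    have hcmU : finrank K (cm U U) ≤ 3 := by
      have hU3 : finrank K U ≤ 3 := by
        have := finrank_range_le_card (R := K) x
        rw [Fintype.card_fin] at this
        exact this
      by_cases h3 : finrank K U = 3
      · exact finrank_cm_three h3
      · by_cases h2 : finrank K U = 2
        · obtain ⟨w, hw⟩ := finrank_cm_two h2
          have h4 := (Submodule.finrank_mono hw).trans (finrank_span_singleton_le' (K := K) w)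
          omega
        · rw [cm_eq_bot_of_le_one (V := U) (by omega), finrank_bot]
          omega
    have hd2 : finrank K (J π ^ 2 : Submodule K A) ≤ finrank K (J π ^ 3 : Submodule K A) + 3 := by
      have h1 := Submodule.finrank_mono h2le
      have h2 := Submodule.finrank_add_le_finrank_add_finrank (cm U U) (J π ^ 3)
      omega
    by_cases hm4 : m = 3
    · subst hm4
      omega
    exfalso
    refine false_of_three hs x (m := m) (by omega) hxJ hbot h32 ?_ ?_ hd2 ?_
    · obtain ⟨a, ha, ha0⟩ := htop'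
      obtain ⟨n, rfl⟩ : ∃ n, m = n + 1 := ⟨m - 1, by omega⟩
      have h1 := H645.LocalAlg.pow_add_le U (J π) hJ hUJ hgen n ha
      rw [hbot, sup_bot_eq] at h1
      exact ⟨a, h1, ha0⟩
    · exact (pow_le_pow_left' hUJ 2).trans h2le
    · intro hd3
      have hthree : J π ^ 3 ≤ cm (J π) (J π ^ 2) ⊔ J π ^ m := by
        have h3S : J π ^ 3 ≤ cm (J π) (J π) ⊔ J π ^ m := by
          rw [sup_comm, ← hSdef, hSeq]
          exact h32
        have h5 := Submodule.finrank_mono h2le
        exact three_of hJ hUJ hgen (by omega) h3S (by omega)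
      refine (pow_le_pow_left' hUJ 3).trans (hthree.trans (sup_le ?_ ?_))
      · rw [cm, Submodule.span_le]
        rintro _ ⟨a, ha, b, hb, rfl⟩
        obtain ⟨u, hu, r, hr, rfl⟩ := Submodule.mem_sup.1 (hgen ha)
        have hb' : b ∈ U ^ 2 ⊔ J π ^ 3 := H645.LocalAlg.pow_add_le U (J π) hJ hUJ hgen 1 hb
        obtain ⟨v, hv, s, hs', rfl⟩ := Submodule.mem_sup.1 hb'
        have hu1 := m1 (hUJ hu)
        have hv2 : v ∈ J π ^ 2 := (pow_le_pow_left' hUJ 2) hv
        have e : (u + r) * (v + s) - (v + s) * (u + r) = (u * v - v * u) +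
            ((u * s - s * u) + (r * v - v * r) + (r * s - s * r)) := by noncomm_ring
        rw [SetLike.mem_coe, e]
        refine Submodule.add_mem_sup (cm_mem hu hv) (Submodule.add_mem _ (Submodule.add_mem _
          (Submodule.sub_mem _ (mm hu1 hs') (mm hs' hu1)) (Submodule.sub_mem _ (mm hr hv2)
          (mm hv2 hr))) ?_)
        exact pow_anti hJ (by omega) (show 4 ≤ 5 by omega)
          (Submodule.sub_mem _ (mm hr hs') (mm hs' hr))
      · exact (pow_anti hJ (by omega) (by omega)).trans le_sup_right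

end loc

end Cfsg.Agent.H591.Five
end

-- part: H632/Factor
section
/-!
# The factor of an algebra at a central idempotent

`A` a `K`-algebra, `e` a central idempotent. `Fac e` is `A` modulo the annihilator of `e`; it is
isomorphic to `A e`.

* `toA : Fac e →ₗ[K] A`, `x ↦ x e` (injective, multiplicative, range `A e`);
* `finrank_fac : dim Fac e = dim (A e)`;
* `finrank_center_fac : dim Z(Fac e) = dim (Z(A) e)`.
-/

set_option autoImplicit false

namespace Cfsg.Agent.H632.Factor

variable {K A : Type*} [Field K] [Ring A] [Algebra K A]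

/-- A central idempotent. -/
structure CI (e : A) : Prop where
  idem : e * e = e
  comm : ∀ x, e * x = x * e

/-- The annihilator of a central idempotent. -/
def ann {e : A} (_he : CI e) : Ideal A where
  carrier := {x | x * e = 0}
  add_mem' := by
    intro a b ha hb
    show (a + b) * e = 0
    rw [add_mul, show a * e = 0 from ha, show b * e = 0 from hb, add_zero]
  zero_mem' := zero_mul e
  smul_mem' := by
    intro c x hx
    show c * x * e = 0
    rw [mul_assoc, show x * e = 0 from hx, mul_zero]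

theorem mem_ann {e : A} (he : CI e) {x : A} : x ∈ ann he ↔ x * e = 0 := Iff.rfl

instance isTwoSided_ann {e : A} (he : CI e) : (ann he).IsTwoSided := ⟨by
  intro a b ha
  rw [mem_ann] at ha ⊢
  rw [mul_assoc, ← he.comm b, ← mul_assoc, ha, zero_mul]⟩

/-- The factor of `A` at the central idempotent `e`. -/
abbrev Fac {e : A} (he : CI e) : Type _ := A ⧸ ann he

/-- The projection. -/
abbrev pr {e : A} (he : CI e) : A →+* Fac he := Ideal.Quotient.mk (ann he)

theorem pr_surjective {e : A} (he : CI e) : Function.Surjective (pr he) :=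
  Ideal.Quotient.mk_surjective

theorem pr_eq_zero {e : A} (he : CI e) {x : A} : pr he x = 0 ↔ x * e = 0 := by
  rw [Ideal.Quotient.eq_zero_iff_mem, mem_ann]

theorem pr_eq_iff {e : A} (he : CI e) {x y : A} : pr he x = pr he y ↔ x * e = y * e := by
  rw [← sub_eq_zero, ← map_sub, pr_eq_zero, sub_mul, sub_eq_zero]

theorem pr_smul {e : A} (he : CI e) (c : K) (x : A) : pr he (c • x) = c • pr he x := rfl

theorem pr_e {e : A} (he : CI e) : pr he e = 1 := by
  rw [← map_one (pr he), pr_eq_iff, he.idem, one_mul]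

variable (K) in
/-- The projection as a linear map. -/
def prL {e : A} (he : CI e) : A →ₗ[K] Fac he where
  toFun := pr he
  map_add' := map_add _
  map_smul' c x := pr_smul he c x

theorem prL_apply {e : A} (he : CI e) (x : A) : prL K he x = pr he x := rfl

variable (K) in
/-- Multiplication by the idempotent, from the factor to the algebra. -/
def toA {e : A} (he : CI e) : Fac he →ₗ[K] A where
  toFun := Quotient.lift (fun x : A => x * e) (fun x y hxy => by
    have h1 : -x + y ∈ ann he := QuotientAddGroup.leftRel_apply.1 hxy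
    rw [mem_ann, add_mul, neg_mul, neg_add_eq_zero] at h1
    exact h1)
  map_add' := by
    rintro ⟨x⟩ ⟨y⟩
    exact add_mul x y e
  map_smul' := by
    rintro c ⟨x⟩
    exact smul_mul_assoc c x e

theorem toA_pr {e : A} (he : CI e) (x : A) : toA K he (pr he x) = x * e := rfl

theorem pr_toA {e : A} (he : CI e) (x : Fac he) : pr he (toA K he x) = x := by
  obtain ⟨x, rfl⟩ := pr_surjective he x
  rw [toA_pr, map_mul, pr_e, mul_one]

theorem toA_mul_e {e : A} (he : CI e) (x : Fac he) : toA K he x * e = toA K he x := by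
  obtain ⟨x, rfl⟩ := pr_surjective he x
  rw [toA_pr, mul_assoc, he.idem]

theorem toA_injective {e : A} (he : CI e) : Function.Injective (toA K he) :=
  Function.LeftInverse.injective (g := pr he) (pr_toA he)

theorem toA_mul {e : A} (he : CI e) (x y : Fac he) :
    toA K he (x * y) = toA K he x * toA K he y := by
  obtain ⟨x, rfl⟩ := pr_surjective he x
  obtain ⟨y, rfl⟩ := pr_surjective he y
  rw [← map_mul, toA_pr, toA_pr, toA_pr, mul_assoc x e, he.comm (y * e), mul_assoc y e e, he.idem,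
    mul_assoc]

/-- Multiplication by `e` as a linear map. -/
abbrev mulE (K : Type*) [Field K] [Algebra K A] (e : A) : A →ₗ[K] A := LinearMap.mulRight K e

theorem range_toA {e : A} (he : CI e) : LinearMap.range (toA K he) = LinearMap.range (mulE K e) := by
  ext x
  simp only [LinearMap.mem_range, LinearMap.mulRight_apply]
  constructor
  · rintro ⟨y, rfl⟩
    obtain ⟨y, rfl⟩ := pr_surjective he y
    exact ⟨y, rfl⟩
  · rintro ⟨y, rfl⟩
    exact ⟨pr he y, rfl⟩

theorem finrank_fac {e : A} (he : CI e) :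
    Module.finrank K (Fac he) = Module.finrank K (LinearMap.range (mulE K e)) := by
  rw [← range_toA he, LinearMap.finrank_range_of_inj (toA_injective he)]

theorem finiteDimensional_fac [FiniteDimensional K A] {e : A} (he : CI e) :
    FiniteDimensional K (Fac he) :=
  FiniteDimensional.of_injective (toA K he) (toA_injective he)

theorem toA_mem_center {e : A} (he : CI e) {x : Fac he} :
    toA K he x ∈ Subalgebra.center K A ↔ x ∈ Subalgebra.center K (Fac he) := by
  rw [Subalgebra.mem_center_iff, Subalgebra.mem_center_iff]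
  constructor
  · intro h y
    apply toA_injective (K := K) he
    rw [toA_mul, toA_mul, h]
  · intro h y
    have h1 := congrArg (toA K he) (h (pr he y))
    rw [toA_mul, toA_mul, toA_pr, mul_assoc, he.comm, toA_mul_e, ← mul_assoc, mul_assoc _ y e,
      ← he.comm y, ← mul_assoc, toA_mul_e] at h1
    exact h1

/-- `Z(A) e` as a submodule of `A`. -/
def centE (K : Type*) {A : Type*} [Field K] [Ring A] [Algebra K A] (e : A) : Submodule K A :=
  (Subalgebra.toSubmodule (Subalgebra.center K A)).map (mulE K e)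

theorem finrank_center_fac {e : A} (he : CI e) :
    Module.finrank K (Subalgebra.center K (Fac he)) = Module.finrank K (centE K e) := by
  have hec : e ∈ Subalgebra.center K A := Subalgebra.mem_center_iff.2 fun x => (he.comm x).symm
  have h1 : (Subalgebra.toSubmodule (Subalgebra.center K (Fac he))).map (toA K he) = centE K e := by
    ext x
    simp only [centE, Submodule.mem_map, Subalgebra.mem_toSubmodule, LinearMap.mulRight_apply]
    constructor
    · rintro ⟨y, hy, rfl⟩
      exact ⟨toA K he y, (toA_mem_center he).2 hy, toA_mul_e he y⟩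
    · rintro ⟨y, hy, rfl⟩
      refine ⟨pr he y, ?_, rfl⟩
      rw [← toA_mem_center (K := K) he, toA_pr]
      exact mul_mem hy hec
  rw [← h1]
  exact (LinearEquiv.finrank_eq (Submodule.equivMapOfInjective (toA K he) (toA_injective he)
    (Subalgebra.toSubmodule (Subalgebra.center K (Fac he)))))

end Cfsg.Agent.H632.Factor
end

-- part: H632/BlockDim
section
/-!
# The dimensions of a block algebra and of its centre

`K = ResField M`, `S` a union of blocks, `idem M S` its idempotent in `K[H]`: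

* `finrank_block`: `dim K[H] e_S = ∑_{χ ∈ S} χ(1)²`;
* `finrank_center_block`: `dim Z(K[H]) e_S = |S|`.
-/

set_option autoImplicit false

namespace Cfsg.Agent.H632.BlockDim

open Cfsg Module Cfsg.Agent.H644 Cfsg.Agent.Blocks.Local Cfsg.Agent.Blocks.ConvCentral
open Cfsg.Agent.Blocks.MinMax Cfsg.Agent.H632.Factor

section linear

variable {K : Type*} [Field K] {H : Type*} [Group H] [Finite H]

/-- The group algebra as a space of functions. -/
noncomputable def linE (K : Type*) [Field K] (H : Type*) [Group H] [Finite H] :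
    MonoidAlgebra K H ≃ₗ[K] (H → K) where
  toFun x g := x.coeff g
  map_add' x y := by
    funext g
    simp only [MonoidAlgebra.coeff_add, Finsupp.add_apply, Pi.add_apply]
  map_smul' c x := by
    funext g
    simp only [MonoidAlgebra.coeff_smul, Finsupp.smul_apply, Pi.smul_apply, RingHom.id_apply]
  invFun f := mkA f
  left_inv x := mkA_coeff x
  right_inv f := rfl

theorem linE_apply (x : MonoidAlgebra K H) (g : H) : linE K H x g = x.coeff g := rfl

theorem linE_symm_apply (f : H → K) : (linE K H).symm f = mkA f := rfl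

theorem finiteDimensional_groupAlgebra (K : Type*) [Field K] (H : Type*) [Group H] [Finite H] :
    FiniteDimensional K (MonoidAlgebra K H) :=
  FiniteDimensional.of_injective (linE K H).toLinearMap (linE K H).injective

theorem finrank_groupAlgebra (K : Type*) [Field K] (H : Type*) [Group H] [Finite H] :
    finrank K (MonoidAlgebra K H) = Nat.card H := by
  have := Fintype.ofFinite H
  rw [(linE K H).finrank_eq, finrank_fintype_fun_eq_card, Nat.card_eq_fintype_card]

theorem mkA_single [DecidableEq H] (g : H) :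
    mkA (Pi.single g (1 : K)) = MonoidAlgebra.single g 1 := by
  refine ext_coeff fun x => ?_
  rw [coeff_mkA, MonoidAlgebra.coeff_single, Finsupp.single_apply, Pi.single_apply]
  simp only [eq_comm]

theorem trace_mulE (y : MonoidAlgebra K H) :
    LinearMap.trace K (MonoidAlgebra K H) (mulE K y) = Nat.card H * y.coeff 1 := by
  classical
  have := Fintype.ofFinite H
  let b : Basis H K (MonoidAlgebra K H) := Basis.ofEquivFun (linE K H)
  rw [LinearMap.trace_eq_matrix_trace K b]
  have h1 : ∀ g, LinearMap.toMatrix b b (mulE K y) g g = y.coeff 1 := by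
    intro g
    rw [LinearMap.toMatrix_apply]
    have h2 : b g = MonoidAlgebra.single g 1 := by
      rw [← mkA_single, Basis.coe_ofEquivFun]
      rfl
    rw [h2, LinearMap.mulRight_apply]
    show linE K H (MonoidAlgebra.single g 1 * y) g = _
    rw [linE_apply, MonoidAlgebra.coeff_single_mul_apply, one_mul, inv_mul_cancel]
  rw [Matrix.trace]
  simp only [Matrix.diag_apply, h1, Finset.sum_const, Finset.card_univ, nsmul_eq_mul,
    Nat.card_eq_fintype_card]

/-- The rank of right multiplication by an idempotent, over a field of characteristic zero. -/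
theorem finrank_range_mulE (y : MonoidAlgebra K H) (hy : y * y = y) :
    (finrank K (LinearMap.range (mulE K y)) : K) = Nat.card H * y.coeff 1 := by
  have := finiteDimensional_groupAlgebra K H
  have h1 : LinearMap.IsProj (LinearMap.range (mulE K y)) (mulE K y) := by
    refine ⟨fun x => LinearMap.mem_range_self _ x, ?_⟩
    rintro _ ⟨x, rfl⟩
    rw [LinearMap.mulRight_apply, LinearMap.mulRight_apply, mul_assoc, hy]
  rw [← h1.trace, trace_mulE]

end linear

section main

variable {p : ℕ} {M : Ideal AlgInt} [M.IsPrime] {H : Type*} [Group H] [Finite H]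

theorem ci_idem (hM : IsPModular p M) {S : Set (IrrCharacter H)} (hS : IsUnion M S) :
    CI (idem M S) :=
  ⟨idem_mul_self hM hS, fun x => isCls_comm (isCls_idem S) x⟩

theorem exists_toK' (x : MonoidAlgebra (ResField M) H) :
    ∃ f : H → ℂ, (∀ g, MemLocalRing M (f g)) ∧ toK M f = x := by
  have h1 : ∀ c : ResField M, ∃ z : ℂ, MemLocalRing M z ∧ redC M z = c := by
    intro c
    obtain ⟨⟨z, hz⟩, rfl⟩ := red_surjective c
    exact ⟨z, hz, redC_def hz⟩
  choose s hs hs' using h1
  refine ⟨fun g => s (x.coeff g), fun g => hs _, ext_coeff fun g => ?_⟩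
  rw [coeff_toK, hs']

/-- A subspace all of whose elements lift to a complex subspace is at most as large. -/
theorem finrank_le_of_lift (X : Submodule (ResField M) (MonoidAlgebra (ResField M) H))
    (W : Submodule ℂ (H → ℂ))
    (hW : ∀ x ∈ X, ∃ f ∈ W, (∀ g, MemLocalRing M (f g)) ∧ toK M f = x) :
    finrank (ResField M) X ≤ finrank ℂ W := by
  have := finiteDimensional_groupAlgebra (ResField M) H
  let b := Module.finBasis (ResField M) X
  have h1 : ∀ i, ∃ f ∈ W, (∀ g, MemLocalRing M (f g)) ∧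
      toK M f = (b i : MonoidAlgebra (ResField M) H) := fun i => hW _ (b i).2
  choose f hfW hfR hf using h1
  have h2 : LinearIndependent (ResField M) (fun i g => redC M (f i g)) := by
    have h3 : LinearIndependent (ResField M) fun i => (b i : MonoidAlgebra (ResField M) H) :=
      b.linearIndependent.map' X.subtype (Submodule.ker_subtype _)
    have h4 := h3.map' (linE (ResField M) H).toLinearMap (LinearEquiv.ker _)
    have h5 : (fun i g => redC M (f i g)) = (linE (ResField M) H).toLinearMap ∘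
        fun i => (b i : MonoidAlgebra (ResField M) H) := by
      funext i g
      show _ = (b i : MonoidAlgebra (ResField M) H).coeff g
      rw [← hf i, coeff_toK]
    rw [h5]
    exact h4
  have h6 := Cfsg.Agent.Blocks.BlockRank.linearIndependent_of_redC f hfR h2
  let w : Fin (finrank (ResField M) X) → W := fun i => ⟨f i, hfW i⟩
  have hw : LinearIndependent ℂ w := LinearIndependent.of_comp W.subtype h6
  have h7 := hw.fintype_card_le_finrank
  rwa [Fintype.card_fin] at h7

/-- The functions in the union of blocks `S`. -/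
noncomputable def funS (S : Set (IrrCharacter H)) : Submodule ℂ (H → ℂ) :=
  (LinearMap.range (mulE ℂ (mkA (blockCoeff S) : MonoidAlgebra ℂ H))).map
    (linE ℂ H).toLinearMap

theorem mkA_conv [Fintype H] (f f' : H → ℂ) :
    (mkA (conv f f') : MonoidAlgebra ℂ H) = mkA f * mkA f' := by
  refine ext_coeff fun g => ?_
  rw [coeff_mul_eq_sum, coeff_mkA, conv_apply]
  rfl

theorem mem_funS [Fintype H] (S : Set (IrrCharacter H)) (f : H → ℂ) :
    conv f (blockCoeff S) ∈ funS S := by
  refine ⟨mkA f * mkA (blockCoeff S), ⟨mkA f, rfl⟩, ?_⟩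
  rw [← mkA_conv]
  rfl

theorem finrank_block_le (hM : IsPModular p M) {S : Set (IrrCharacter H)} (hS : IsUnion M S) :
    finrank (ResField M) (LinearMap.range (mulE (ResField M) (idem M S))) ≤
      finrank ℂ (funS S) := by
  have := Fintype.ofFinite H
  refine finrank_le_of_lift _ _ ?_
  rintro _ ⟨x, rfl⟩
  obtain ⟨f, hf, rfl⟩ := exists_toK' x
  refine ⟨conv f (blockCoeff S), mem_funS S f,
    memLocalRing_conv hf (memLocalRing_blockCoeff hM hS), ?_⟩
  rw [toK_conv hf (memLocalRing_blockCoeff hM hS), LinearMap.mulRight_apply]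
  rfl

theorem mkA_blockCoeff_idem (S : Set (IrrCharacter H)) :
    (mkA (blockCoeff S) : MonoidAlgebra ℂ H) * mkA (blockCoeff S) = mkA (blockCoeff S) := by
  have h := Cfsg.Agent.Blocks.Osima.irrIdem_mul_self S
  have h1 : (mkA (blockCoeff S) : MonoidAlgebra ℂ H) = Cfsg.Agent.Blocks.Osima.irrIdem S :=
    ext_coeff fun g => by rw [coeff_mkA, Cfsg.Agent.Blocks.Osima.coeff_irrIdem]
  rw [h1, h]

theorem finrank_funS (S : Set (IrrCharacter H)) :
    (finrank ℂ (funS S) : ℂ) = Nat.card H * blockCoeff S 1 := by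
  have h1 : finrank ℂ (funS S) =
      finrank ℂ (LinearMap.range (mulE ℂ (mkA (blockCoeff S) : MonoidAlgebra ℂ H))) :=
    LinearEquiv.finrank_map_eq (linE ℂ H) _
  rw [h1, finrank_range_mulE _ (mkA_blockCoeff_idem S), coeff_mkA]

theorem blockCoeff_one [Fintype (IrrCharacter H)] [DecidableEq (IrrCharacter H)]
    (S : Set (IrrCharacter H)) [DecidablePred (· ∈ S)] :
    Nat.card H * blockCoeff S 1 = ∑ χ ∈ Finset.univ.filter (· ∈ S), ((χ : H → ℂ) 1) ^ 2 := by
  classical
  rw [Cfsg.Agent.Blocks.Osima.blockCoeff_eq_sum, ← mul_assoc,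
    mul_inv_cancel₀ Cfsg.Agent.Characters.Core.card_ne_zero_complex, one_mul, Finset.sum_filter]
  refine Finset.sum_congr rfl fun χ _ => ?_
  split_ifs with h
  · obtain ⟨n, -, hn⟩ := Cfsg.Agent.Characters.Core.isIrr_apply_one χ.2
    rw [hn, Complex.conj_natCast, sq]
  · rfl

theorem blockCoeff_one_add (S : Set (IrrCharacter H)) :
    (Nat.card H : ℂ) * blockCoeff S 1 + Nat.card H * blockCoeff Sᶜ 1 = Nat.card H := by
  classical
  have : Finite (IrrCharacter H) := Cfsg.Agent.Characters.Core.finite_irr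
  have := Fintype.ofFinite (IrrCharacter H)
  have h1 := Cfsg.Agent.Blocks.Osima.irrIdem_univ (G := H)
  have h2 : blockCoeff (Set.univ : Set (IrrCharacter H)) (1 : H) = 1 := by
    rw [← Cfsg.Agent.Blocks.Osima.coeff_irrIdem, h1, coeff_one_eq, if_pos rfl]
  have h3 : (Nat.card H : ℂ) * blockCoeff (Set.univ : Set (IrrCharacter H)) (1 : H) =
      Nat.card H := by rw [h2, mul_one]
  rw [blockCoeff_one] at h3
  rw [blockCoeff_one S, blockCoeff_one Sᶜ, ← h3]
  rw [← Finset.sum_filter_add_sum_filter_not (Finset.univ.filter (· ∈ Set.univ))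
    (fun χ : IrrCharacter H => χ ∈ S)]
  congr 1
  · refine Finset.sum_congr ?_ fun _ _ => rfl
    ext χ
    simp
  · refine Finset.sum_congr ?_ fun _ _ => rfl
    ext χ
    simp

omit [M.IsPrime] [Finite H] in
theorem isUnion_compl {S : Set (IrrCharacter H)} (hS : IsUnion M S) : IsUnion M Sᶜ := by
  intro χ hχ ψ h hψ
  exact hχ (hS ψ hψ χ (Cfsg.Agent.Blocks.Osima.sameBlock_symm h))

theorem idem_add_compl (hM : IsPModular p M) {S : Set (IrrCharacter H)} (hS : IsUnion M S) :
    idem M S + idem M Sᶜ = 1 := by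
  rw [← idem_union hM hS (isUnion_compl hS) disjoint_compl_right, Set.union_compl_self,
    idem_univ hM]

/-- The dimension of a block algebra. -/
theorem finrank_block' (hM : IsPModular p M) {S : Set (IrrCharacter H)} (hS : IsUnion M S) :
    finrank (ResField M) (LinearMap.range (mulE (ResField M) (idem M S))) =
      finrank ℂ (funS S) := by
  have := finiteDimensional_groupAlgebra (ResField M) H
  have h1 := finrank_block_le hM hS
  have h2 := finrank_block_le hM (isUnion_compl hS)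
  have h3 : finrank ℂ (funS S) + finrank ℂ (funS Sᶜ) = Nat.card H := by
    have h4 : ((finrank ℂ (funS S) + finrank ℂ (funS Sᶜ) : ℕ) : ℂ) = Nat.card H := by
      rw [Nat.cast_add, finrank_funS, finrank_funS, blockCoeff_one_add]
    exact_mod_cast h4
  have h5 : Nat.card H ≤ finrank (ResField M) (LinearMap.range (mulE (ResField M) (idem M S))) +
      finrank (ResField M) (LinearMap.range (mulE (ResField M) (idem M Sᶜ))) := by
    rw [← finrank_groupAlgebra (ResField M) H,
      ← finrank_top (R := ResField M) (M := MonoidAlgebra (ResField M) H)]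
    refine le_trans ?_ (Submodule.finrank_add_le_finrank_add_finrank _ _)
    apply Submodule.finrank_mono
    intro x _
    rw [Submodule.mem_sup]
    refine ⟨x * idem M S, ⟨x, rfl⟩, x * idem M Sᶜ, ⟨x, rfl⟩, ?_⟩
    rw [← mul_add, idem_add_compl hM hS, mul_one]
  omega

/-- The dimension of a block algebra is the sum of the squares of the degrees. -/
theorem finrank_block (hM : IsPModular p M) {S : Set (IrrCharacter H)} (hS : IsUnion M S)
    [Fintype (IrrCharacter H)] [DecidablePred (· ∈ S)] :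
    (finrank (ResField M) (Fac (ci_idem hM hS)) : ℂ) =
      ∑ χ ∈ Finset.univ.filter (· ∈ S), ((χ : H → ℂ) 1) ^ 2 := by
  classical
  rw [finrank_fac, finrank_block' hM hS, finrank_funS, blockCoeff_one]

/-- The class functions in the union of blocks `S`. -/
noncomputable def clsS [Fintype H] (S : Set (IrrCharacter H)) : Submodule ℂ (H → ℂ) where
  carrier := {f | IsClassFunction H f ∧ ∀ χ : IrrCharacter H, χ ∉ S → omega (χ : H → ℂ) f = 0}
  add_mem' := by
    rintro f f' ⟨h1, h2⟩ ⟨h3, h4⟩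
    refine ⟨isClassFunction_add h1 h3, fun χ hχ => ?_⟩
    rw [omega_add, h2 χ hχ, h4 χ hχ, add_zero]
  zero_mem' := by
    refine ⟨fun g h => rfl, fun χ _ => omega_zero _⟩
  smul_mem' := by
    rintro c f ⟨h1, h2⟩
    refine ⟨isClassFunction_smul h1 c, fun χ hχ => ?_⟩
    rw [omega_smul, h2 χ hχ, mul_zero]

theorem finrank_clsS_le [Fintype H] (S : Set (IrrCharacter H)) :
    finrank ℂ (clsS S) ≤ Nat.card S := by
  have : Finite (IrrCharacter H) := Cfsg.Agent.Characters.Core.finite_irr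
  have := Fintype.ofFinite S
  let φ : clsS S →ₗ[ℂ] (S → ℂ) :=
    { toFun := fun f χ => omega ((χ : IrrCharacter H) : H → ℂ) (f : H → ℂ)
      map_add' := by
        intro f f'
        funext χ
        simp only [Submodule.coe_add, omega_add, Pi.add_apply]
      map_smul' := by
        intro c f
        funext χ
        simp only [Submodule.coe_smul, omega_smul, Pi.smul_apply, RingHom.id_apply, smul_eq_mul] }
  have hφ : Function.Injective φ := by
    intro f f' h
    apply Subtype.ext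
    refine eq_of_omega f.2.1 f'.2.1 fun χ hχ => ?_
    by_cases hS : (⟨χ, hχ⟩ : IrrCharacter H) ∈ S
    · exact congrFun h ⟨⟨χ, hχ⟩, hS⟩
    · rw [f.2.2 ⟨χ, hχ⟩ hS, f'.2.2 ⟨χ, hχ⟩ hS]
  have h1 := LinearMap.finrank_le_finrank_of_injective hφ
  rwa [finrank_fintype_fun_eq_card, ← Nat.card_eq_fintype_card] at h1

theorem finrank_center_block_le (hM : IsPModular p M) {S : Set (IrrCharacter H)}
    (hS : IsUnion M S) :
    finrank (ResField M) (centE (ResField M) (idem M S)) ≤ Nat.card S := by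
  classical
  have := Fintype.ofFinite H
  refine (finrank_le_of_lift _ (clsS S) ?_).trans (finrank_clsS_le S)
  rintro _ ⟨x, hx, rfl⟩
  have hx' : IsCls x := isCls_iff_mem_center.2 hx
  obtain ⟨f, hf, hfR, rfl⟩ := exists_toK hx'
  refine ⟨conv f (blockCoeff S), ⟨isClassFunction_conv hf (isClassFunction_blockCoeff S), ?_⟩,
    memLocalRing_conv hfR (memLocalRing_blockCoeff hM hS), ?_⟩
  · intro χ hχ
    rw [omega_conv χ.2 hf, omega_blockCoeff, if_neg hχ, mul_zero]
  · rw [toK_conv hfR (memLocalRing_blockCoeff hM hS), LinearMap.mulRight_apply]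
    rfl

theorem card_le_finrank_center (K : Type*) [Field K] :
    Nat.card (ConjClasses H) ≤ finrank K (Subalgebra.center K (MonoidAlgebra K H)) := by
  classical
  have := finiteDimensional_groupAlgebra K H
  have := Fintype.ofFinite (ConjClasses H)
  let v : ConjClasses H → Subalgebra.center K (MonoidAlgebra K H) := fun c =>
    ⟨mkA fun x => if ConjClasses.mk x = c then 1 else 0, by
      rw [← isCls_iff_mem_center]
      intro g h
      rw [coeff_mkA, coeff_mkA]
      have h1 : ConjClasses.mk (h * g * h⁻¹) = ConjClasses.mk g := by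
        rw [ConjClasses.mk_eq_mk_iff_isConj]
        exact (isConj_iff.2 ⟨h, rfl⟩).symm
      rw [h1]⟩
  have hv : LinearIndependent K v := by
    rw [Fintype.linearIndependent_iff]
    intro a ha c
    obtain ⟨g, rfl⟩ := ConjClasses.exists_rep c
    have h1 := congrArg (fun z : Subalgebra.center K (MonoidAlgebra K H) =>
      linE K H (z : MonoidAlgebra K H) g) ha
    simp only [AddSubmonoidClass.coe_finsetSum, Subalgebra.coe_smul, map_sum, map_smul,
      Finset.sum_apply, Pi.smul_apply, smul_eq_mul, ZeroMemClass.coe_zero, map_zero,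
      Pi.zero_apply] at h1
    rw [Finset.sum_eq_single (ConjClasses.mk g)] at h1
    · rw [linE_apply] at h1
      simpa [v] using h1
    · intro c' _ hc'
      rw [linE_apply]
      simp only [v, coeff_mkA]
      rw [if_neg (Ne.symm hc'), mul_zero]
    · intro h
      exact absurd (Finset.mem_univ _) h
  have h2 := hv.fintype_card_le_finrank
  rwa [← Nat.card_eq_fintype_card] at h2

/-- The dimension of the centre of a block algebra is the number of irreducible characters. -/
theorem finrank_center_block' (hM : IsPModular p M) {S : Set (IrrCharacter H)}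
    (hS : IsUnion M S) :
    finrank (ResField M) (centE (ResField M) (idem M S)) = Nat.card S := by
  have := finiteDimensional_groupAlgebra (ResField M) H
  have : Finite (IrrCharacter H) := Cfsg.Agent.Characters.Core.finite_irr
  have h1 := finrank_center_block_le hM hS
  have h2 := finrank_center_block_le hM (isUnion_compl hS)
  have h3 : Nat.card S + Nat.card (Sᶜ : Set (IrrCharacter H)) = Nat.card (ConjClasses H) := by
    rw [← Cfsg.Agent.Characters.Core.card_irr]
    classical
    rw [← Nat.card_congr (Equiv.Set.sumCompl S), Nat.card_sum]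
  have h4 := card_le_finrank_center (H := H) (ResField M)
  have h5 : finrank (ResField M) (Subalgebra.center (ResField M) (MonoidAlgebra (ResField M) H)) ≤
      finrank (ResField M) (centE (ResField M) (idem M S)) +
      finrank (ResField M) (centE (ResField M) (idem M Sᶜ)) := by
    refine le_trans ?_ (Submodule.finrank_add_le_finrank_add_finrank _ _)
    have h6 : finrank (ResField M)
        (Subalgebra.center (ResField M) (MonoidAlgebra (ResField M) H)) =
        finrank (ResField M) (Subalgebra.toSubmodule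
          (Subalgebra.center (ResField M) (MonoidAlgebra (ResField M) H))) := rfl
    rw [h6]
    apply Submodule.finrank_mono
    intro x hx
    rw [Submodule.mem_sup]
    refine ⟨x * idem M S, ⟨x, hx, rfl⟩, x * idem M Sᶜ, ⟨x, hx, rfl⟩, ?_⟩
    rw [← mul_add, idem_add_compl hM hS, mul_one]
  omega

theorem finrank_center_block (hM : IsPModular p M) {S : Set (IrrCharacter H)}
    (hS : IsUnion M S) :
    finrank (ResField M) (Subalgebra.center (ResField M) (Fac (ci_idem hM hS))) =
      Nat.card S := by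
  rw [finrank_center_fac, finrank_center_block' hM hS]

end main

end Cfsg.Agent.H632.BlockDim
end
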